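import Cfsg.Agent.KFacts.TwESix.Comb
import Cfsg.Agent.KFacts.TwESix.CombRho
import Cfsg.Agent.KFacts.RgdEx

-- merged: Cfsg.Agent.KFacts.TwESix.Grp
section

/-!
# `²E₆(q)`: the long root groups (packet [B])

* `lr_long` : `LR` (of `RgdTI`) for every long root `a`: `X a` is centralised by all `X x` with `⟨x, a^∨⟩ ≥ 0`;
  every characteristic, every `q`.
-/

set_option autoImplicit false
set_option linter.unusedSectionVars false

namespace Cfsg.Agent.KFacts.TwESix.Grp

open CoxeterSystem Cfsg.Agent.ChevalleyStructure.CoxeterGeom Cfsg.Agent.Tits.Roots Cfsg.Agent.Tits.Core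
  Cfsg.Agent.Tits.RootComb Cfsg.Agent.Nodes.Reps Cfsg.Agent.Nodes.BNOf Cfsg.Agent.Nodes.Coroot
  Cfsg.Agent.Nodes.RGDTwGen
  Cfsg.Agent.KFacts.RgdSL Cfsg.Agent.KFacts.RgdTI Cfsg.Agent.Nodes.RGDTwE6 Cfsg.Agent.Nodes.RGDFold
  Cfsg.Agent.KFacts.TwESix.Comb
open Cfsg.Lie Cfsg.Agent.ChevalleyStructure Cfsg.Agent.ChevalleyStructure.Elts
  Cfsg.Agent.ChevalleyStructure.TwistedU Cfsg.Agent.ChevalleyStructure.TwistedFix
open Cfsg.Agent.ChevalleyStructure.TwE6Basic (sg)
open scoped commutatorElement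

universe u

variable {K : Type u} [Field K] {q : ℕ} {φ : K →+* K}
variable {W : Type*} [Group W] (cs : CoxeterSystem CoxeterMatrix.F₄ W)

theorem V_root {r : ℕ} (hr : r < chevE6.nroots) : IsRoot cs isCartan (V chevE6 J r) :=
  (mem_rts cs).2 (V_mem_rts r hr)

theorem commute_long {s : ℕ} (hs : s < chevE6.nroots) (hl : bf (V chevE6 J s) (V chevE6 J s) = 4) {r : ℕ}
    (hr : r < chevE6.nroots) (hrs : 0 ≤ bf (V chevE6 J r) (V chevE6 J s)) (t u : K) :
    Commute (xG (F := K) hp.inList r t) (xG hp.inList s u) := by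
  rcases nil_of_nonneg s hs hl r hr hrs with h | ⟨h1, h2⟩
  · subst h
    show xG (F := K) hp.inList s t * xG hp.inList s u = xG hp.inList s u * xG hp.inList s t
    rw [xG_add, xG_add, add_comm]
  · by_cases h3 : s = r
    · subst h3
      show xG (F := K) hp.inList s t * xG hp.inList s u = xG hp.inList s u * xG hp.inList s t
      rw [xG_add, xG_add, add_comm]
    · exact commute_of_nil hp hr hs h3 h1 h2 t u

/-- **`LR` for long roots.** -/
theorem lr_long [Fintype K] (hφ : ∀ x, φ x = x ^ q) (hqq : ∀ t : K, (t ^ q) ^ q = t) (p : ℕ) [Fact p.Prime]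
    [CharP K p] {a : Fin 4 → ℤ} (ha : IsRoot cs isCartan a) (hl : bf a a = 4) :
    LR (rgd cs hφ hqq p) a := by
  have : Finite W := finiteW cs
  refine ⟨ha, fun x hx hc u hu v hv => ?_⟩
  have hc' : 0 ≤ bf x a := (ge_iff cs ha hl).1 hc
  have hu' : (u : GL chevE6.Idx K) ∈ rspan (xG (F := K) hp.inList) {k | k < chevE6.nroots ∧ V chevE6 J k = x} :=
    (show (u : GL chevE6.Idx K) ∈ R chevE6 hp K J (sg φ) x from hu).1
  have hv' : (v : GL chevE6.Idx K) ∈ rspan (xG (F := K) hp.inList) {k | k < chevE6.nroots ∧ V chevE6 J k = a} :=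
    (show (v : GL chevE6.Idx K) ∈ R chevE6 hp K J (sg φ) a from hv).1
  have step : ∀ s ∈ {k | k < chevE6.nroots ∧ V chevE6 J k = a}, ∀ t : K,
      rspan (xG (F := K) hp.inList) {k | k < chevE6.nroots ∧ V chevE6 J k = x} ≤
        Subgroup.centralizer ({xG (F := K) hp.inList s t} : Set (GL chevE6.Idx K)) := by
    rintro s ⟨hs, hsa⟩ t
    refine rspan_le _ fun r hr w => ?_
    rw [Subgroup.mem_centralizer_singleton_iff]
    exact (commute_long hs (by rw [hsa]; exact hl) hr.1 (by rw [hr.2, hsa]; exact hc') w t).eq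
  have h1 : rspan (xG (F := K) hp.inList) {k | k < chevE6.nroots ∧ V chevE6 J k = a} ≤
      Subgroup.centralizer ({(u : GL chevE6.Idx K)} : Set (GL chevE6.Idx K)) := by
    refine rspan_le _ fun s hs t => ?_
    rw [Subgroup.mem_centralizer_singleton_iff]
    exact (Subgroup.mem_centralizer_singleton_iff.1 (step s hs t hu')).symm
  exact Subtype.ext (Subgroup.mem_centralizer_singleton_iff.1 (h1 hv')).symm

end Cfsg.Agent.KFacts.TwESix.Grp

end

-- merged: Cfsg.Agent.KFacts.TwESix.Facts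
section

/-!
# Root groups of `²E₆(q)`: commutators of short roots (packet [B])

`Dat R`: `R` is a root group datum of type `F₄` in characteristic 2 whose long root groups are central in the sense of
`LR`, and two orthogonal short root groups do not commute (`nc`).

* `sq`, `abel` : root groups are elementary abelian;
* `comm_long`, `comm_60` : commuting pairs;
* `orth_mem`, `orth_nd`, `orth_surj` : `[X x, X y] = X (x + y)`, nondegenerate, for `x ⟂ y` short;
* `surj_135` : for `x` long, `y` short at 135 degrees, `1 ≠ u ∈ X x`: every `w ∈ X (x + y)` is `[u, v]` modulo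
  `X (x + 2y)`.
-/

set_option autoImplicit false
set_option linter.unusedSectionVars false

namespace Cfsg.Agent.KFacts.TwESix.Facts

open CoxeterSystem Cfsg.Agent.ChevalleyStructure.CoxeterGeom Cfsg.Agent.Tits.Roots Cfsg.Agent.Tits.Core
  Cfsg.Agent.Tits.RootComb Cfsg.Agent.Tits.Exchange Cfsg.Agent.Nodes.Reps Cfsg.Agent.Nodes.BNOf
  Cfsg.Agent.Nodes.StabComb Cfsg.Agent.Nodes.Bruhat Cfsg.Agent.Nodes.OppDec
  Cfsg.Agent.Nodes.Coroot Cfsg.Agent.KFacts.RgdSL Cfsg.Agent.KFacts.RgdTI Cfsg.Agent.KFacts.RgdOdd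
  Cfsg.Agent.KFacts.RgdEx
  Cfsg.Agent.Nodes.RGDTwE6 Cfsg.Agent.KFacts.TwESix.Comb Cfsg.Agent.KFacts.TwESix.CombRho
open scoped commutatorElement

variable {W Y : Type*} [Group W] [Group Y] {cs : CoxeterSystem CoxeterMatrix.F₄ W} {T : Subgroup Y} {n : Fin 4 → Y}
  {X : (Fin 4 → ℤ) → Subgroup Y}

/-- The facts on the root group datum used below. -/
structure Dat (R : RGD cs isCartan 2 T n X) : Prop where
  lr : ∀ a, IsRoot cs isCartan a → bf a a = 4 → LR R a
  nc : ∃ x y, IsRoot cs isCartan x ∧ IsRoot cs isCartan y ∧ bf x x = 2 ∧ bf y y = 2 ∧ bf x y = 0 ∧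
    ∃ u ∈ X x, ∃ v ∈ X y, u * v ≠ v * u

variable (R : RGD cs isCartan 2 T n X)

include R

/-- Root groups are elementary abelian. -/
theorem sq {b : Fin 4 → ℤ} (hb : IsRoot cs isCartan b) {v : Y} (hv : v ∈ X b) : v * v = 1 := by
  have : Finite W := finiteW cs
  have : Fact (Nat.Prime 2) := ⟨Nat.prime_two⟩
  obtain ⟨x, hx, h1, h2⟩ := nbr b ((mem_rts cs).1 hb)
  have hA := a2 cs ((mem_rts cs).2 hx) hb h1 h2
  rw [← pow_two]
  exact elementary R hA hv

theorem inv_eq {b : Fin 4 → ℤ} (hb : IsRoot cs isCartan b) {v : Y} (hv : v ∈ X b) : v⁻¹ = v :=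
  inv_eq_of_mul_eq_one_left (sq R hb hv)

theorem abel {b : Fin 4 → ℤ} (hb : IsRoot cs isCartan b) {u v : Y} (hu : u ∈ X b) (hv : v ∈ X b) : u * v = v * u := by
  have h1 := sq R hb (mul_mem hu hv)
  have h2 : (u * v)⁻¹ = v * u := by rw [mul_inv_rev, inv_eq R hb hu, inv_eq R hb hv]
  rw [← h2]
  exact (inv_eq_of_mul_eq_one_left h1).symm

/-- Two short root groups at 60 degrees commute. -/
theorem comm_60 {x y : Fin 4 → ℤ} (hx : IsRoot cs isCartan x) (hy : IsRoot cs isCartan y) (hxx : bf x x = 2)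
    (hyy : bf y y = 2) (hxy : bf x y = 1) {u v : Y} (hu : u ∈ X x) (hv : v ∈ X y) : u * v = v * u := by
  have : Finite W := finiteW cs
  refine comm_of_not_btwn R hx hy ?_ ?_ (fun z => not_btwn_60 cs hx hy (by rw [hxx, hyy]) (by rw [hxx, hxy]; norm_num))
    hu hv
  · rintro rfl
    omega
  · rintro rfl
    rw [bf_neg_left] at hxy
    omega

/-- A nontrivial element of a root group can be moved to any other one by the torus. -/
theorem exists_tor {b : Fin 4 → ℤ} (hb : IsRoot cs isCartan b) {v v' : Y} (hv : v ∈ X b) (hv1 : v ≠ 1) (hv' : v' ∈ X b)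
    (hv1' : v' ≠ 1) : ∃ t ∈ T, t * v * t⁻¹ = v' := by
  have : Finite W := finiteW cs
  obtain ⟨x, hx, h1, h2⟩ := nbr b ((mem_rts cs).1 hb)
  have hA := a2 cs ((mem_rts cs).2 hx) hb h1 h2
  obtain ⟨t, ht, e⟩ := hA.tor_trans R hv hv1 hv' hv1'
  exact ⟨t, ht.1, e⟩

theorem tor_mem {b : Fin 4 → ℤ} (hb : IsRoot cs isCartan b) {t v : Y} (ht : t ∈ T) (hv : v ∈ X b) :
    t * v * t⁻¹ ∈ X b := by
  rw [← R.tor b hb t ht]
  exact conj_mem_cj.2 hv

/-- `[X x, X y] ≤ X (x + y)` for `x ⟂ y` short. -/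
theorem orth_mem {x y : Fin 4 → ℤ} (hx : IsRoot cs isCartan x) (hy : IsRoot cs isCartan y) (hxx : bf x x = 2)
    (hyy : bf y y = 2) (hxy : bf x y = 0) {u v : Y} (hu : u ∈ X x) (hv : v ∈ X y) : ⁅u, v⁆ ∈ X (x + y) := by
  have hne : x ≠ y := by rintro rfl; omega
  have hne' : x ≠ -y := by
    rintro rfl
    rw [bf_neg_left] at hxy
    omega
  exact btw_le_of (fun z hz => btwn_orth cs hxx hyy hxy hz) (R.comm x y hx hy hne hne' u hu v hv)

theorem exists_ne_one {b : Fin 4 → ℤ} (hb : IsRoot cs isCartan b) : ∃ u ∈ X b, u ≠ 1 := by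
  have := X_ne_bot R hb
  rw [Subgroup.ne_bot_iff_exists_ne_one] at this
  obtain ⟨⟨a, ha⟩, h1⟩ := this
  exact ⟨a, ha, fun h2 => h1 (Subtype.ext h2)⟩

/-- `[X x, X y] ≤ X (x + y) X (x + 2 y)`, `x` long, `y` short at 135 degrees. -/
theorem btw_135 {x y : Fin 4 → ℤ} (hx : IsRoot cs isCartan x) (hy : IsRoot cs isCartan y) (hxx : bf x x = 4)
    (hyy : bf y y = 2) (hxy : bf x y = -2) {u v : Y} (hu : u ∈ X x) (hv : v ∈ X y) :
    ⁅u, v⁆ ∈ X (x + y) ⊔ X (x + (2 : ℤ) • y) := by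
  have h1 := R.comm x y hx hy (by rintro rfl; omega) (by
    rintro rfl
    rw [bf_neg_left, bf_neg_right] at hxx
    omega) u hu v hv
  have h2 : btw cs isCartan X x y ≤ X (x + y) ⊔ X (x + (2 : ℤ) • y) := by
    refine iSup_le fun z => ?_
    rcases btwn_135 cs hxx hyy hxy z.2 with h3 | h3
    · rw [h3]; exact le_sup_left
    · rw [h3]; exact le_sup_right
  exact h2 h1

variable {R} (D : Dat R)

include D

/-- A long root group commutes with every root group at an angle ≤ 90 degrees. -/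
theorem comm_long {x a : Fin 4 → ℤ} (hx : IsRoot cs isCartan x) (ha : IsRoot cs isCartan a) (haa : bf a a = 4)
    (hxa : 0 ≤ bf x a) {u v : Y} (hu : u ∈ X x) (hv : v ∈ X a) : u * v = v * u :=
  (D.lr a ha haa).comm x hx ((ge_iff cs ha haa).2 hxa) u hu v hv

/-- The pairing of two orthogonal short root groups is nondegenerate. -/
theorem orth_nd {x y : Fin 4 → ℤ} (hx : IsRoot cs isCartan x) (hy : IsRoot cs isCartan y) (hxx : bf x x = 2)
    (hyy : bf y y = 2) (hxy : bf x y = 0) {u : Y} (hu : u ∈ X x) (hu1 : u ≠ 1) : ∃ v ∈ X y, u * v ≠ v * u := by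
  obtain ⟨x0, y0, hx0, hy0, hxx0, hyy0, hxy0, u0, hu0, v0, hv0, hne⟩ := D.nc
  obtain ⟨w, hwx, hwy⟩ := exists_rep_pair cs hx0 hy0 hxx0 hyy0 hxy0 hx hy hxx hyy hxy
  obtain ⟨k, hk⟩ := exists_rp cs R.nsys w
  have h1 : k * u0 * k⁻¹ ∈ X x := by
    have := R.conj_mem hk hx0 hu0
    rwa [hwx] at this
  have h2 : k * v0 * k⁻¹ ∈ X y := by
    have := R.conj_mem hk hy0 hv0
    rwa [hwy] at this
  have hne' : (k * u0 * k⁻¹) * (k * v0 * k⁻¹) ≠ (k * v0 * k⁻¹) * (k * u0 * k⁻¹) := by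
    intro h
    apply hne
    have h3 : k * (u0 * v0) * k⁻¹ = k * (v0 * u0) * k⁻¹ := by
      calc k * (u0 * v0) * k⁻¹ = (k * u0 * k⁻¹) * (k * v0 * k⁻¹) := by group
        _ = (k * v0 * k⁻¹) * (k * u0 * k⁻¹) := h
        _ = _ := by group
    exact mul_left_cancel (mul_right_cancel h3)
  have h11 : k * u0 * k⁻¹ ≠ 1 := by
    intro h
    apply hne'
    rw [h, one_mul, mul_one]
  obtain ⟨t, ht, e⟩ := exists_tor R hx h1 h11 hu hu1
  refine ⟨t * (k * v0 * k⁻¹) * t⁻¹, tor_mem R hy ht h2, fun h => hne' ?_⟩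
  rw [← e] at h
  have h3 : t * ((k * u0 * k⁻¹) * (k * v0 * k⁻¹)) * t⁻¹ = t * ((k * v0 * k⁻¹) * (k * u0 * k⁻¹)) * t⁻¹ := by
    calc t * ((k * u0 * k⁻¹) * (k * v0 * k⁻¹)) * t⁻¹
        = t * (k * u0 * k⁻¹) * t⁻¹ * (t * (k * v0 * k⁻¹) * t⁻¹) := by group
      _ = t * (k * v0 * k⁻¹) * t⁻¹ * (t * (k * u0 * k⁻¹) * t⁻¹) := h
      _ = _ := by group
  exact mul_left_cancel (mul_right_cancel h3)

/-- `X (x + y)` consists of commutators. -/
theorem orth_surj {x y : Fin 4 → ℤ} (hx : IsRoot cs isCartan x) (hy : IsRoot cs isCartan y) (hxx : bf x x = 2)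
    (hyy : bf y y = 2) (hxy : bf x y = 0) {w : Y} (hw : w ∈ X (x + y)) : ∃ u ∈ X x, ∃ v ∈ X y, ⁅u, v⁆ = w := by
  by_cases hw1 : w = 1
  · exact ⟨1, one_mem _, 1, one_mem _, by rw [hw1]; simp⟩
  obtain ⟨u, hu, hu1⟩ := exists_ne_one R hx
  obtain ⟨v, hv, hne⟩ := orth_nd D hx hy hxx hyy hxy hu hu1
  have hxyr : IsRoot cs isCartan (x + y) :=
    (mem_rts cs).2 (orth_add x ((mem_rts cs).1 hx) hxx y ((mem_rts cs).1 hy) hyy hxy).1
  have h1 := orth_mem R hx hy hxx hyy hxy hu hv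
  have h2 : ⁅u, v⁆ ≠ 1 := fun h => hne (commutatorElement_eq_one_iff_mul_comm.1 h)
  obtain ⟨t, ht, e⟩ := exists_tor R hxyr h1 h2 hw hw1
  refine ⟨t * u * t⁻¹, tor_mem R hx ht hu, t * v * t⁻¹, tor_mem R hy ht hv, ?_⟩
  rw [← e, commutatorElement_def, commutatorElement_def]; group

/-- For `x` long, `y` short at 135 degrees, `1 ≠ u ∈ X x`: every `w ∈ X (x + y)` is `[u, v]` modulo `X (x + 2 y)`. -/
theorem surj_135 {x y : Fin 4 → ℤ} (hx : IsRoot cs isCartan x) (hy : IsRoot cs isCartan y) (hxx : bf x x = 4)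
    (hyy : bf y y = 2) (hxy : bf x y = -2) (hs : IsRoot cs isCartan (x + y)) (hl : IsRoot cs isCartan (x + (2 : ℤ) • y))
    {u : Y} (hu : u ∈ X x) (hu1 : u ≠ 1) {w : Y} (hw : w ∈ X (x + y)) :
    ∃ v ∈ X y, ∃ z ∈ X (x + (2 : ℤ) • y), ⁅u, v⁆ = w * z := by
  have : Finite W := finiteW cs
  have n1 : bf (x + y) (x + y) = 2 := by
    rw [bf_add_left, bf_add_right, bf_add_right, bf_comm y x, hxx, hyy, hxy]; norm_num
  have n2 : bf (x + (2 : ℤ) • y) (x + (2 : ℤ) • y) = 4 := by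
    rw [bf_add_left, bf_add_right, bf_add_right, bf_smul_left, bf_smul_left, bf_smul_right, bf_smul_right,
      bf_comm y x, hxx, hyy, hxy]; norm_num
  obtain ⟨s, hs', a, ha, b, hb, m, hm, he⟩ := exists_mu R hx hu hu1
  have hcyx : cpr cs isCartan y x = -1 := by
    have := cpr_long cs y hx hxx
    rw [bf_comm, hxy] at this
    omega
  have hsy : rep cs isCartan s y = x + y := by rw [hs', hcyx, neg_one_smul, sub_neg_eq_add, add_comm]
  have h1 : rep cs isCartan s⁻¹ (x + y) = y := by rw [← hsy, rep_inv_apply]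
  set v := m⁻¹ * w * m with hv'
  have hv : v ∈ X y := by
    have := R.conj_mem' hm hs hw
    rwa [h1] at this
  -- `⁅u, v⁆ = w' z`
  have hcomm : ∀ c ∈ X (x + y), ∀ d ∈ X (x + (2 : ℤ) • y), c * d = d * c := fun c hc d hd =>
    comm_long D hs hl n2 (by
      rw [bf_add_left, bf_add_right, bf_add_right, bf_smul_right, bf_smul_right, bf_comm y x, hxx, hyy, hxy]
      norm_num) hc hd
  have hdec : ∀ c ∈ X (x + y) ⊔ X (x + (2 : ℤ) • y), ∃ w' ∈ X (x + y), ∃ z ∈ X (x + (2 : ℤ) • y), c = w' * z := by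
    intro c hc
    have hle : X (x + y) ≤ Subgroup.normalizer (X (x + (2 : ℤ) • y) : Set Y) := by
      intro c hc
      rw [Subgroup.mem_normalizer_iff]
      intro d
      constructor
      · intro hd
        rw [hcomm c hc d hd, mul_inv_cancel_right]; exact hd
      · intro hd
        have h2 := hcomm c hc _ hd
        have e : d = c⁻¹ * (c * d * c⁻¹ * c) := by group
        rw [← h2] at e
        rw [e, inv_mul_cancel_left]; exact hd
    rw [← SetLike.mem_coe, Subgroup.coe_mul_of_left_le_normalizer_right _ _ hle] at hc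
    obtain ⟨w', hw', z, hz, e⟩ := hc
    exact ⟨w', hw', z, hz, e.symm⟩
  obtain ⟨w', hw', z, hz, e1⟩ := hdec _ (btw_135 R hx hy hxx hyy hxy hu hv)
  -- `a` commutes with `v` and `z`
  have hxn := hx.neg
  have hav : v * a = a * v := comm_long D hy hxn (by rw [bf_neg_left, bf_neg_right]; omega) (by
    rw [bf_neg_right, bf_comm]; omega) hv ha
  have hbv : v * b = b * v := comm_long D hy hxn (by rw [bf_neg_left, bf_neg_right]; omega) (by
    rw [bf_neg_right, bf_comm]; omega) hv hb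
  have haz : z * a = a * z := comm_long D hl hxn (by rw [bf_neg_left, bf_neg_right]; omega) (by
    rw [bf_neg_right, bf_add_left, bf_smul_left, bf_comm y x, hxx, hxy]; norm_num) hz ha
  -- `⁅a, w'⁆ = y1 z1`
  have hbf : bf (-x) (x + y) = -2 := by
    rw [bf_neg_left, bf_add_right, hxx, hxy]; norm_num
  have h3 := btw_135 R hxn hs (by rw [bf_neg_left, bf_neg_right]; omega) n1 hbf ha hw'
  have e2 : -x + (x + y) = y := by abel
  have e3 : -x + (2 : ℤ) • (x + y) = x + (2 : ℤ) • y := by module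
  rw [e2, e3] at h3
  have hyz : ∀ c ∈ X y, ∀ d ∈ X (x + (2 : ℤ) • y), c * d = d * c := fun c hc d hd =>
    comm_long D hy hl n2 (by rw [bf_add_right, bf_smul_right, bf_comm y x, hyy, hxy]; norm_num) hc hd
  obtain ⟨y1, hy1, z1, hz1, e4⟩ : ∃ y1 ∈ X y, ∃ z1 ∈ X (x + (2 : ℤ) • y), ⁅a, w'⁆ = y1 * z1 := by
    have hle : X y ≤ Subgroup.normalizer (X (x + (2 : ℤ) • y) : Set Y) := by
      intro c hc
      rw [Subgroup.mem_normalizer_iff]
      intro d
      constructor
      · intro hd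
        rw [hyz c hc d hd, mul_inv_cancel_right]; exact hd
      · intro hd
        have h2 := hyz c hc _ hd
        have e : d = c⁻¹ * (c * d * c⁻¹ * c) := by group
        rw [← h2] at e
        rw [e, inv_mul_cancel_left]; exact hd
    rw [← SetLike.mem_coe, Subgroup.coe_mul_of_left_le_normalizer_right _ _ hle] at h3
    obtain ⟨y1, hy1, z1, hz1, e⟩ := h3
    exact ⟨y1, hy1, z1, hz1, e.symm⟩
  -- `w = m v m⁻¹ = y1 z1 w' z v`
  have e5 : w = y1 * z1 * w' * z * v := by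
    have h4 : m * v * m⁻¹ = w := by rw [hv']; group
    have h5 : b * v * b⁻¹ = v := by rw [← hbv]; group
    calc w = m * v * m⁻¹ := h4.symm
      _ = a * u * (b * v * b⁻¹) * u⁻¹ * a⁻¹ := by rw [he]; group
      _ = a * (u * v * u⁻¹ * v⁻¹) * (v * a⁻¹) := by rw [h5]; group
      _ = a * ⁅u, v⁆ * (a⁻¹ * v) := by
          rw [← commutatorElement_def, show v * a⁻¹ = a⁻¹ * v from by
            rw [eq_inv_mul_iff_mul_eq, ← mul_assoc, ← hav, mul_inv_cancel_right]]
      _ = a * w' * (z * a⁻¹) * v := by rw [e1]; group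
      _ = a * w' * (a⁻¹ * z) * v := by
          rw [show z * a⁻¹ = a⁻¹ * z from by
            rw [eq_inv_mul_iff_mul_eq, ← mul_assoc, ← haz, mul_inv_cancel_right]]
      _ = (a * w' * a⁻¹ * w'⁻¹) * w' * z * v := by group
      _ = ⁅a, w'⁆ * w' * z * v := by rw [← commutatorElement_def]
      _ = _ := by rw [e4]
  -- compare
  have h6 : y1 * v = 1 ∧ w = w' := by
    -- `c = w w'⁻¹`
    have hvw : ⁅v, w'⁆ ∈ X (y + (x + y)) := orth_mem R hy hs hyy n1 (by
      rw [bf_add_right, bf_comm y x, hyy, hxy]; norm_num) hv hw'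
    have e6 : y + (x + y) = x + (2 : ℤ) • y := by module
    rw [e6] at hvw
    set k := ⁅v, w'⁆ with hk
    have e7 : v * w' = k * (w' * v) := by rw [hk, commutatorElement_def]; group
    have e8 : w' * v = k⁻¹ * (v * w') := by rw [e7, inv_mul_cancel_left]
    -- `w = y1 v · (z1 z k⁻¹) · w'`
    have e9 : w = (y1 * v) * (z1 * z * k⁻¹) * w' := by
      have c1 := hyz v hv _ (mul_mem (mul_mem hz1 hz) (inv_mem hvw))
      calc w = y1 * z1 * w' * z * v := e5
        _ = y1 * z1 * (w' * z) * v := by group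
        _ = y1 * z1 * (z * w') * v := by rw [hcomm w' hw' z hz]
        _ = y1 * z1 * z * (w' * v) := by group
        _ = y1 * z1 * z * (k⁻¹ * (v * w')) := by rw [e8]
        _ = y1 * ((z1 * z * k⁻¹) * v) * w' := by group
        _ = y1 * (v * (z1 * z * k⁻¹)) * w' := by rw [c1]
        _ = _ := by group
    set y2 := y1 * v with hy2
    set z2 := z1 * z * k⁻¹ with hz2
    have hy2m : y2 ∈ X y := mul_mem hy1 hv
    have hz2m : z2 ∈ X (x + (2 : ℤ) • y) := mul_mem (mul_mem hz1 hz) (inv_mem hvw)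
    have hc : y2 * z2 ∈ X (x + y) := by
      have : y2 * z2 = w * w'⁻¹ := by rw [e9]; group
      rw [this]
      exact mul_mem hw (inv_mem hw')
    have hy21 : y2 = 1 := by
      by_contra hne
      obtain ⟨d, hd, hd2⟩ := orth_nd D hy hs hyy n1 (by rw [bf_add_right, bf_comm y x, hyy, hxy]; norm_num) hy2m hne
      apply hd2
      have a1 := abel R hs hc hd
      have a2 := hcomm d hd z2 hz2m
      have a3 : y2 * z2 * d = d * y2 * z2 := by rw [a1]; group
      have a4 : y2 * z2 * d = y2 * d * z2 := by rw [mul_assoc, ← a2]; group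
      rw [a4] at a3
      exact mul_right_cancel a3
    have hz21 : z2 = 1 := by
      rw [hy21, one_mul] at hc
      have := X_inf_X R hs hl (by
        intro h0
        rw [← h0] at n2
        omega)
      have h7 : z2 ∈ X (x + y) ⊓ X (x + (2 : ℤ) • y) := ⟨hc, hz2m⟩
      rwa [this, Subgroup.mem_bot] at h7
    refine ⟨hy21, ?_⟩
    rw [e9, hy21, hz21, one_mul, one_mul]
  refine ⟨v, hv, z, hz, ?_⟩
  rw [e1, h6.2]

end Cfsg.Agent.KFacts.TwESix.Facts

end
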