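import Cfsg.Agent.OddHalf.D7Ex.Lin
import Cfsg.Agent.KFacts.TwESix.Facts

-- merged: Cfsg.Agent.OddHalf.D7Tw.Loc
section

/-!
# The unipotent radical of the stabiliser of a long root group, any type

`Q = ⟨X b⟩ Z`, `b` in a finite set with an involution `op` (`b ↦ r - b`), `[X b, X (op b)] ≤ Z = X r`, all other pairs
commute. `g` = the good (long) indices.

* `Loc.QQ`, `Loc.ZQ`, `Loc.XQQ`, `Loc.PQ`, `Loc.E2`, `Loc.lin` = fields of `D7Ex.Setup`.
-/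

set_option autoImplicit false
set_option linter.style.haveILetI false
set_option linter.unusedSectionVars false
set_option linter.unusedVariables false

namespace Cfsg.Agent.OddHalf.D7Tw

open Subgroup
open scoped commutatorElement

variable {G : Type*} [Group G] {ι : Type*}

/-- `⟨X b : b ∈ S⟩ Z` -/
def QS (X : ι → Subgroup G) (Z : Subgroup G) (S : Set ι) : Subgroup G := (⨆ b ∈ S, X b) ⊔ Z

theorem Z_le_QS (X : ι → Subgroup G) (Z : Subgroup G) (S : Set ι) : Z ≤ QS X Z S := le_sup_right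

theorem le_QS (X : ι → Subgroup G) (Z : Subgroup G) {S : Set ι} {b : ι} (hb : b ∈ S) : X b ≤ QS X Z S :=
  le_trans (le_iSup₂ (f := fun b (_ : b ∈ S) => X b) b hb) le_sup_left

theorem QS_le {X : ι → Subgroup G} {Z : Subgroup G} {S : Set ι} {D : Subgroup G} (h1 : Z ≤ D)
    (h2 : ∀ b ∈ S, X b ≤ D) : QS X Z S ≤ D := sup_le (iSup₂_le h2) h1

theorem QS_mono (X : ι → Subgroup G) (Z : Subgroup G) {S S' : Set ι} (h : S ⊆ S') : QS X Z S ≤ QS X Z S' :=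
  QS_le (Z_le_QS X Z S') fun _ hb => le_QS X Z (h hb)

/-- The local structure at a long root group `Z`. -/
structure Loc (X : ι → Subgroup G) (Z P : Subgroup G) (op : ι → ι) (g : Set ι) : Prop where
  Z2 : ∀ z ∈ Z, z * z = 1
  opop : ∀ b, op (op b) = b
  ZP : Z ≤ P
  cen : ∀ z ∈ Z, ∀ p ∈ P, z * p = p * z
  XP : ∀ b, X b ≤ P
  comm : ∀ a b, b ≠ op a → ∀ x ∈ X a, ∀ y ∈ X b, x * y = y * x
  brk : ∀ a, ∀ x ∈ X a, ∀ y ∈ X (op a), x * y * x⁻¹ * y⁻¹ ∈ Z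
  nd : ∀ a, ∀ x ∈ X a, (∀ y ∈ X (op a), x * y = y * x) → x = 1
  onto : ∃ a, Z ≤ ⁅X a, X (op a)⁆
  norm : ∀ p ∈ P, ∀ a, ∀ x ∈ X a, p * x * p⁻¹ ∈ QS X Z Set.univ
  ex : ∀ b, ∃ p ∈ P, ∃ a, a ≠ b ∧ (∀ u ∈ X b, ∃ x ∈ X a, ∃ z ∈ Z, p * x * p⁻¹ * x⁻¹ = u * z) ∧
    (∀ y ∈ X (op a), ∃ c ∈ X (op b), ∃ z ∈ Z, p * c * p⁻¹ * c⁻¹ = y * z)
  sep : ∀ b ∈ g, ∀ b', b' ≠ b → ∃ p ∈ P, ∃ S : Set ι, b' ∉ S ∧ (∀ c, ∀ x ∈ X c, p * x * p⁻¹ * x⁻¹ ∈ QS X Z S) ∧
    ∀ u ∈ X b, ∃ x ∈ QS X Z Set.univ, ∃ z ∈ Z, p * x * p⁻¹ * x⁻¹ = u * z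
  tor : ∀ b ∈ g, ∀ x ∈ X b, ∀ y ∈ X b, x ≠ 1 → y ≠ 1 → ∃ p ∈ P, p * x * p⁻¹ = y
  sq : ∀ b ∈ g, ∀ x ∈ X b, x * x = 1
  short : ∀ b, b ∉ g → ∀ u ∈ X b, ∃ p ∈ P, ∃ x ∈ QS X Z g, ∃ y ∈ QS X Z g, ∃ z ∈ QS X Z g,
    u = x * (p * y * p⁻¹) * z

namespace Loc

variable {X : ι → Subgroup G} {Z P : Subgroup G} {op : ι → ι} {g : Set ι}

theorem inv_Z (h : Loc X Z P op g) {z : G} (hz : z ∈ Z) : z⁻¹ = z := inv_eq_of_mul_eq_one_left (h.Z2 z hz)

theorem QS_le_P (h : Loc X Z P op g) (S : Set ι) : QS X Z S ≤ P := QS_le h.ZP fun b _ => h.XP b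

/-- The elements of `Q` commuting with `v` modulo `Z`. -/
def TT (h : Loc X Z P op g) {v : G} (hv : v ∈ P) : Subgroup G where
  carrier := {w | w ∈ P ∧ v * w * v⁻¹ * w⁻¹ ∈ Z}
  one_mem' := ⟨one_mem _, by
    rw [mul_one, mul_inv_cancel, inv_one, mul_one]; exact one_mem _⟩
  mul_mem' := by
    rintro a b ⟨ha, ha2⟩ ⟨hb, hb2⟩
    refine ⟨mul_mem ha hb, ?_⟩
    have c := h.cen _ hb2 a ha
    have e : v * (a * b) * v⁻¹ * (a * b)⁻¹ = (v * a * v⁻¹ * a⁻¹) * (a * (v * b * v⁻¹ * b⁻¹) * a⁻¹) := by group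
    rw [e, ← c, mul_inv_cancel_right]
    exact mul_mem ha2 hb2
  inv_mem' := by
    rintro a ⟨ha, ha2⟩
    refine ⟨inv_mem ha, ?_⟩
    have c := h.cen _ (inv_mem ha2) a ha
    have e : v * a⁻¹ * v⁻¹ * a⁻¹⁻¹ = a⁻¹ * ((v * a * v⁻¹ * a⁻¹)⁻¹ * a) := by group
    rw [e, c, inv_mul_cancel_left]
    exact inv_mem ha2

theorem mem_TT (h : Loc X Z P op g) {v : G} (hv : v ∈ P) {w : G} :
    w ∈ h.TT hv ↔ w ∈ P ∧ v * w * v⁻¹ * w⁻¹ ∈ Z := Iff.rfl

theorem brk' (h : Loc X Z P op g) (a b : ι) {x y : G} (hx : x ∈ X a) (hy : y ∈ X b) : x * y * x⁻¹ * y⁻¹ ∈ Z := by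
  by_cases hab : b = op a
  · subst hab; exact h.brk a x hx y hy
  · have e : x * y * x⁻¹ * y⁻¹ = 1 := by rw [h.comm a b hab x hx y hy]; group
    rw [e]; exact one_mem _

/-- `[Q, Q] ≤ Z`. -/
theorem QQ (h : Loc X Z P op g) {v w : G} (hv : v ∈ QS X Z Set.univ) (hw : w ∈ QS X Z Set.univ) :
    v * w * v⁻¹ * w⁻¹ ∈ Z := by
  have hc1 : ∀ x ∈ Z, ∀ w ∈ P, x * w * x⁻¹ * w⁻¹ ∈ Z := fun x hx w hw => by
    have e : x * w * x⁻¹ * w⁻¹ = 1 := by rw [h.cen x hx w hw]; group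
    rw [e]; exact one_mem _
  have hc2 : ∀ x ∈ Z, ∀ w ∈ P, w * x * w⁻¹ * x⁻¹ ∈ Z := fun x hx w hw => by
    have e : w * x * w⁻¹ * x⁻¹ = 1 := by rw [← h.cen x hx w hw]; group
    rw [e]; exact one_mem _
  have step1 : ∀ a, ∀ x ∈ X a, ∀ w ∈ QS X Z Set.univ, x * w * x⁻¹ * w⁻¹ ∈ Z := by
    intro a x hx w hw
    have hxP := h.XP a hx
    have hle : QS X Z Set.univ ≤ h.TT hxP :=
      QS_le (fun y hy => ⟨h.ZP hy, hc2 y hy x hxP⟩) fun b _ y hy => ⟨h.XP b hy, h.brk' a b hx hy⟩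
    exact (hle hw).2
  have hwP := h.QS_le_P _ hw
  have hle : QS X Z Set.univ ≤ h.TT hwP := by
    refine QS_le (fun y hy => ⟨h.ZP hy, hc2 y hy w hwP⟩) fun b _ y hy => ⟨h.XP b hy, ?_⟩
    have h1 := inv_mem (step1 b y hy w hw)
    have e : (y * w * y⁻¹ * w⁻¹)⁻¹ = w * y * w⁻¹ * y⁻¹ := by group
    rwa [e] at h1
  have h1 := inv_mem (hle hv).2
  have e : (w * v * w⁻¹ * v⁻¹)⁻¹ = v * w * v⁻¹ * w⁻¹ := by group
  rwa [e] at h1

/-- `Z ≤ [Q, Q]`. -/
theorem XQQ (h : Loc X Z P op g) : Z ≤ ⁅QS X Z Set.univ, QS X Z Set.univ⁆ := by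
  obtain ⟨a, ha⟩ := h.onto
  exact ha.trans (commutator_mono (le_QS X Z (Set.mem_univ a)) (le_QS X Z (Set.mem_univ _)))

/-- `QS S` is normalised by `Q`. -/
theorem Q_norm (h : Loc X Z P op g) (S : Set ι) {v q : G} (hv : v ∈ QS X Z Set.univ) (hq : q ∈ QS X Z S) :
    v * q * v⁻¹ ∈ QS X Z S := by
  have hqQ := QS_mono X Z (Set.subset_univ S) hq
  have e : v * q * v⁻¹ = (v * q * v⁻¹ * q⁻¹) * q := by group
  rw [e]
  exact mul_mem (Z_le_QS X Z S (h.QQ hv hqQ)) hq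

/-- `P` normalises `Q`. -/
theorem PQ (h : Loc X Z P op g) {p q : G} (hp : p ∈ P) (hq : q ∈ QS X Z Set.univ) :
    p * q * p⁻¹ ∈ QS X Z Set.univ := by
  have hle : QS X Z Set.univ ≤ (QS X Z Set.univ).comap (MulAut.conj p).toMonoidHom := by
    refine QS_le (fun y hy => ?_) fun b _ y hy => ?_
    · show p * y * p⁻¹ ∈ QS X Z Set.univ
      rw [← h.cen y hy p hp, mul_inv_cancel_right]
      exact Z_le_QS X Z _ hy
    · exact h.norm p hp b y hy
  exact hle hq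

/-- Splitting off one root. -/
theorem split (h : Loc X Z P op g) {S : Set ι} {b : ι} (hb : b ∈ S) {q : G} (hq : q ∈ QS X Z S) :
    ∃ x ∈ X b, ∃ q' ∈ QS X Z (S \ {b}), q = x * q' := by
  have hle : X b ≤ normalizer (QS X Z (S \ {b}) : Set G) := by
    intro v hv
    have hvQ : v ∈ QS X Z Set.univ := le_QS X Z (Set.mem_univ b) hv
    rw [mem_normalizer_iff]
    intro q
    constructor
    · exact fun hq => h.Q_norm _ hvQ hq
    · intro hq
      have := h.Q_norm _ (inv_mem hvQ) hq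
      have e : v⁻¹ * (v * q * v⁻¹) * v⁻¹⁻¹ = q := by group
      rwa [e] at this
  have h1 : QS X Z S ≤ X b ⊔ QS X Z (S \ {b}) := by
    refine QS_le (le_trans (Z_le_QS X Z _) le_sup_right) fun a ha => ?_
    by_cases hab : a = b
    · rw [hab]; exact le_sup_left
    · exact le_trans (le_QS X Z (⟨ha, hab⟩ : a ∈ S \ {b})) le_sup_right
  have h2 := h1 hq
  rw [← SetLike.mem_coe, coe_mul_of_left_le_normalizer_right _ _ hle] at h2
  obtain ⟨x, hx, q', hq', e⟩ := h2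
  exact ⟨x, hx, q', hq', e.symm⟩

/-- `QS S` commutes with `X (op b)` for `b ∉ S`. -/
theorem comm_of_not_mem (h : Loc X Z P op g) {S : Set ι} {b : ι} (hbS : b ∉ S) {q y : G} (hq : q ∈ QS X Z S)
    (hy : y ∈ X (op b)) : q * y = y * q := by
  have hle : QS X Z S ≤ centralizer ({y} : Set G) := by
    refine QS_le (fun x hx => ?_) fun a ha x hx => ?_
    · rw [mem_centralizer_singleton_iff]
      exact h.cen x hx y (h.XP _ hy)
    · rw [mem_centralizer_singleton_iff]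
      refine h.comm a (op b) ?_ x hx y hy
      intro h1
      apply hbS
      have : a = b := by rw [← h.opop a, ← h1, h.opop]
      rwa [← this]
  exact (mem_centralizer_singleton_iff.1 (hle hq))

/-- If `q ∈ QS S` commutes with `X (op b)`, then `q` has no component in `X b`. -/
theorem drop (h : Loc X Z P op g) {S : Set ι} {b : ι} (hb : b ∈ S) {q : G} (hq : q ∈ QS X Z S)
    (hc : ∀ y ∈ X (op b), q * y = y * q) : q ∈ QS X Z (S \ {b}) := by
  obtain ⟨x, hx, q', hq', rfl⟩ := h.split hb hq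
  have h3 : ∀ y ∈ X (op b), x * y = y * x := by
    intro y hy
    have h2 : q' * y = y * q' := h.comm_of_not_mem (fun h => h.2 rfl) hq' hy
    have h4 := hc y hy
    have h5 : x * y * q' = y * x * q' := by
      rw [mul_assoc x, ← h2, ← mul_assoc, h4, mul_assoc y x q']
    exact mul_right_cancel h5
  rw [h.nd b x hx h3, one_mul]
  exact hq'

/-- An element of `Q` lies in `QS S` if it commutes with `X (op b)`, `b ∉ S`. -/
theorem mem_QS [Finite ι] (h : Loc X Z P op g) {S : Set ι} {q : G} (hq : q ∈ QS X Z Set.univ)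
    (hc : ∀ b, b ∉ S → ∀ y ∈ X (op b), q * y = y * q) : q ∈ QS X Z S := by
  classical
  suffices H : ∀ F : Finset ι, (F : Set ι) ⊆ Sᶜ → q ∈ QS X Z (F : Set ι)ᶜ by
    have hfin2 : (Sᶜ).Finite := Set.toFinite _
    have := H hfin2.toFinset (by rw [Set.Finite.coe_toFinset])
    rwa [Set.Finite.coe_toFinset, compl_compl] at this
  intro F
  induction F using Finset.induction_on with
  | empty => intro _; simpa using hq
  | insert b F hbF ih =>
    intro hF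
    rw [Finset.coe_insert, Set.insert_subset_iff] at hF
    have h1 := h.drop (S := (F : Set ι)ᶜ) (b := b) hbF (ih hF.2) (hc b hF.1)
    have e : (F : Set ι)ᶜ \ {b} = ((insert b F : Finset ι) : Set ι)ᶜ := by
      rw [Finset.coe_insert]
      ext c
      simp only [Set.mem_sdiff, Set.mem_compl_iff, Set.mem_insert_iff, Set.mem_singleton_iff, not_or]
      tauto
    rwa [e] at h1

/-- `Z(Q) = Z`. -/
theorem ZQ [Finite ι] (h : Loc X Z P op g) {q : G} (hq : q ∈ QS X Z Set.univ)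
    (hc : ∀ v ∈ QS X Z Set.univ, q * v = v * q) : q ∈ Z := by
  have h1 := h.mem_QS (S := ∅) hq fun b _ y hy => hc y (le_QS X Z (Set.mem_univ _) hy)
  have h2 : QS X Z (∅ : Set ι) ≤ Z := QS_le le_rfl fun b hb => absurd hb (Set.notMem_empty b)
  exact h2 h1

/-- `X b ∩ Z = 1` -/
theorem inf_eq (h : Loc X Z P op g) {b : ι} {x : G} (hx : x ∈ X b) (hxr : x ∈ Z) : x = 1 :=
  h.nd b x hx fun y hy => h.cen x hxr y (h.XP _ hy)

/-- `ξ` is inner on each root group. -/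
theorem E2_aux (h : Loc X Z P op g) {f : G → G}
    (hfX : ∀ v ∈ QS X Z Set.univ, f v ∈ Z)
    (hfm : ∀ v ∈ QS X Z Set.univ, ∀ w ∈ QS X Z Set.univ, f (v * w) = f v * f w)
    (hf1 : ∀ x ∈ Z, f x = 1)
    (hfP : ∀ p ∈ P, ∃ q ∈ QS X Z Set.univ, ∀ v ∈ QS X Z Set.univ,
      f (p * v * p⁻¹) = f v * (q * v * q⁻¹ * v⁻¹)) (b : ι) :
    ∃ c ∈ X (op b), ∀ u ∈ X b, f u = c * u * c⁻¹ * u⁻¹ := by
  obtain ⟨p, hp, a, hab, h1, h2⟩ := h.ex b
  obtain ⟨q, hq, hf⟩ := hfP p hp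
  obtain ⟨y, hy, q', hq', rfl⟩ := h.split (Set.mem_univ (op a)) hq
  obtain ⟨c, hc, zc, hzc, ec⟩ := h2 y hy
  refine ⟨c, hc, fun u hu => ?_⟩
  obtain ⟨x, hx, zx, hzx, ex⟩ := h1 u hu
  have hxQ : x ∈ QS X Z Set.univ := le_QS X Z (Set.mem_univ _) hx
  have huQ : u ∈ QS X Z Set.univ := le_QS X Z (Set.mem_univ _) hu
  have hyQ : y ∈ QS X Z Set.univ := le_QS X Z (Set.mem_univ _) hy
  have hcQ : c ∈ QS X Z Set.univ := le_QS X Z (Set.mem_univ _) hc
  have hxP := h.QS_le_P _ hxQ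
  have huP := h.QS_le_P _ huQ
  have hyP := h.QS_le_P _ hyQ
  have hcP := h.QS_le_P _ hcQ
  have epx : p * x * p⁻¹ = u * zx * x := by rw [← ex]; group
  have epc : p * c * p⁻¹ = y * zc * c := by rw [← ec]; group
  have hzxQ : zx ∈ QS X Z Set.univ := Z_le_QS X Z _ hzx
  -- `f u = [y, x]`
  have h3 := hf x hxQ
  rw [epx, hfm _ (mul_mem huQ hzxQ) x hxQ, hfm u huQ zx hzxQ, hf1 zx hzx, mul_one] at h3
  have hfc : f u * f x = f x * f u := h.cen (f u) (hfX u huQ) (f x) (h.ZP (hfX x hxQ))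
  rw [hfc] at h3
  have h4 : f u = (y * q') * x * (y * q')⁻¹ * x⁻¹ := mul_left_cancel h3
  have h5 : q' * x = x * q' := by
    refine h.comm_of_not_mem (S := Set.univ \ {op a}) (b := op a) (fun h => h.2 rfl) hq' ?_
    rwa [h.opop]
  have h6 : f u = y * x * y⁻¹ * x⁻¹ := by
    rw [h4]
    calc (y * q') * x * (y * q')⁻¹ * x⁻¹ = y * (q' * x) * q'⁻¹ * y⁻¹ * x⁻¹ := by group
      _ = _ := by rw [h5]; group
  have hcx : c * x = x * c := h.comm (op b) a (by rw [h.opop]; exact hab) c hc x hx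
  have hyu : y * u = u * y := h.comm (op a) b (by rw [h.opop]; exact hab.symm) y hy u hu
  -- conjugate `c x = x c` by `p`
  have h7 : (y * zc * c) * (u * zx * x) = (u * zx * x) * (y * zc * c) := by
    rw [← epx, ← epc]
    calc p * c * p⁻¹ * (p * x * p⁻¹) = p * (c * x) * p⁻¹ := by group
      _ = p * (x * c) * p⁻¹ := by rw [hcx]
      _ = _ := by group
  have h8 : y * c * u * x * (zc * zx) = u * x * y * c * (zc * zx) := by
    have a1 : (y * zc * c) * (u * zx * x) = y * c * u * x * (zc * zx) := by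
      calc (y * zc * c) * (u * zx * x) = y * (zc * (c * u)) * (zx * x) := by group
        _ = y * (c * u) * (zc * (zx * x)) := by rw [h.cen zc hzc _ (mul_mem hcP huP)]; group
        _ = y * (c * u) * (zc * (x * zx)) := by rw [h.cen zx hzx x hxP]
        _ = y * (c * u) * ((zc * x) * zx) := by group
        _ = _ := by rw [h.cen zc hzc x hxP]; group
    have a2 : (u * zx * x) * (y * zc * c) = u * x * y * c * (zc * zx) := by
      calc (u * zx * x) * (y * zc * c) = u * (zx * (x * y)) * (zc * c) := by group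
        _ = u * (x * y) * (zx * (zc * c)) := by rw [h.cen zx hzx _ (mul_mem hxP hyP)]; group
        _ = u * (x * y) * (zx * (c * zc)) := by rw [h.cen zc hzc c hcP]
        _ = u * (x * y) * ((zx * c) * zc) := by group
        _ = u * (x * y) * (c * (zx * zc)) := by rw [h.cen zx hzx c hcP]; group
        _ = _ := by rw [h.cen zx hzx zc (h.ZP hzc)]; group
    rw [← a1, h7, a2]
  have h9 := mul_right_cancel h8
  have hcu : c * u * c⁻¹ * u⁻¹ ∈ Z := h.QQ hcQ huQ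
  have hxy : x * y * x⁻¹ * y⁻¹ ∈ Z := h.QQ hxQ hyQ
  have h10 : (c * u * c⁻¹ * u⁻¹) * (y * u * c * x) = (x * y * x⁻¹ * y⁻¹) * (u * y * c * x) := by
    calc (c * u * c⁻¹ * u⁻¹) * (y * u * c * x) = ((c * u * c⁻¹ * u⁻¹) * y) * u * c * x := by group
      _ = y * (c * u * x) := by rw [h.cen _ hcu y hyP]; group
      _ = y * c * u * x := by group
      _ = u * x * y * c := h9
      _ = u * (x * y * x⁻¹ * y⁻¹) * (y * x * c) := by group
      _ = (x * y * x⁻¹ * y⁻¹) * u * (y * (c * x)) := by rw [← h.cen _ hxy u huP, hcx]; group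
      _ = _ := by group
  rw [hyu] at h10
  have h11 := mul_right_cancel h10
  rw [h6, h11]
  have h12 := h.inv_Z hxy
  rw [← h12]; group

/-- Every `P`-invariant class of homomorphisms `Q/Z → Z` modulo inner ones is trivial. -/
theorem E2 [Finite ι] (h : Loc X Z P op g) (f : G → G)
    (hfX : ∀ v ∈ QS X Z Set.univ, f v ∈ Z)
    (hfm : ∀ v ∈ QS X Z Set.univ, ∀ w ∈ QS X Z Set.univ, f (v * w) = f v * f w)
    (hf1 : ∀ x ∈ Z, f x = 1)
    (hfP : ∀ p ∈ P, ∃ q ∈ QS X Z Set.univ, ∀ v ∈ QS X Z Set.univ,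
      f (p * v * p⁻¹) = f v * (q * v * q⁻¹ * v⁻¹)) :
    ∃ q ∈ QS X Z Set.univ, ∀ v ∈ QS X Z Set.univ, f v = q * v * q⁻¹ * v⁻¹ := by
  classical
  have H : ∀ F : Finset ι, ∃ q ∈ QS X Z Set.univ,
      (∀ b ∈ F, ∀ v ∈ X b, f v = q * v * q⁻¹ * v⁻¹) ∧
      (∀ b, b ∉ F → ∀ v ∈ X b, q * v * q⁻¹ * v⁻¹ = 1) := by
    intro F
    induction F using Finset.induction_on with
    | empty =>
      exact ⟨1, one_mem _, fun b hb => absurd hb (Finset.notMem_empty b), fun b _ v _ => by group⟩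
    | insert b F hbF ih =>
      obtain ⟨q, hq, h1, h2⟩ := ih
      obtain ⟨c, hc, h3⟩ := h.E2_aux hfX hfm hf1 hfP b
      have hcQ : c ∈ QS X Z Set.univ := le_QS X Z (Set.mem_univ _) hc
      have hcc : ∀ b', b' ≠ b → ∀ v ∈ X b', c * v = v * c := by
        intro b' hne v hv
        exact h.comm (op b) b' (by rw [h.opop]; exact hne) c hc v hv
      have hcom : ∀ v ∈ QS X Z Set.univ, (c * q) * v * (c * q)⁻¹ * v⁻¹ =
          (q * v * q⁻¹ * v⁻¹) * (c * v * c⁻¹ * v⁻¹) := by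
        intro v hv
        have h4 := h.QQ hq hv
        calc (c * q) * v * (c * q)⁻¹ * v⁻¹ = c * (q * v * q⁻¹ * v⁻¹) * (v * c⁻¹ * v⁻¹) := by group
          _ = _ := by rw [← h.cen _ h4 c (h.QS_le_P _ hcQ)]; group
      refine ⟨c * q, mul_mem hcQ hq, fun b' hb' v hv => ?_, fun b' hn v hv => ?_⟩
      · rcases Finset.mem_insert.1 hb' with rfl | hb'
        · rw [hcom v (le_QS X Z (Set.mem_univ _) hv), h2 b' hbF v hv, one_mul]
          exact h3 v hv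
        · have hne : b' ≠ b := fun h => hbF (h ▸ hb')
          rw [hcom v (le_QS X Z (Set.mem_univ _) hv), ← h1 b' hb' v hv, hcc b' hne v hv]
          group
      · have hne : b' ≠ b := fun h => hn (h ▸ Finset.mem_insert_self _ _)
        have hn' : b' ∉ F := fun h => hn (Finset.mem_insert_of_mem h)
        rw [hcom v (le_QS X Z (Set.mem_univ _) hv), h2 b' hn' v hv, hcc b' hne v hv]
        group
  obtain ⟨q, hq, h1, -⟩ := H (Set.toFinite (Set.univ : Set ι)).toFinset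
  refine ⟨q, hq, fun v hv => ?_⟩
  have hqP := h.QS_le_P _ hq
  have hf1' : f 1 = 1 := hf1 1 (one_mem _)
  let D : Subgroup G :=
    { carrier := {v | v ∈ QS X Z Set.univ ∧ f v = q * v * q⁻¹ * v⁻¹}
      one_mem' := ⟨one_mem _, by rw [hf1']; group⟩
      mul_mem' := by
        rintro a b ⟨ha, ha2⟩ ⟨hb, hb2⟩
        refine ⟨mul_mem ha hb, ?_⟩
        have h3 := h.cen _ (h.QQ hq hb) a (h.QS_le_P _ ha)
        rw [hfm a ha b hb, ha2, hb2]
        calc q * a * q⁻¹ * a⁻¹ * (q * b * q⁻¹ * b⁻¹) = q * a * q⁻¹ * a⁻¹ * ((q * b * q⁻¹ * b⁻¹) * a) * a⁻¹ := by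
              group
          _ = _ := by rw [h3]; group
      inv_mem' := by
        rintro a ⟨ha, ha2⟩
        refine ⟨inv_mem ha, ?_⟩
        have h4 := hfm a ha a⁻¹ (inv_mem ha)
        rw [mul_inv_cancel, hf1', ha2] at h4
        have h3 := h.cen _ (h.QQ hq ha) a⁻¹ (h.QS_le_P _ (inv_mem ha))
        have h5 : f a⁻¹ = (q * a * q⁻¹ * a⁻¹)⁻¹ := eq_inv_of_mul_eq_one_right h4.symm
        rw [h5]
        have h6 := h.cen _ (h.QQ hq ha) a (h.QS_le_P _ ha)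
        calc (q * a * q⁻¹ * a⁻¹)⁻¹ = a⁻¹ * (a * (q * a * q⁻¹ * a⁻¹)⁻¹) := by group
          _ = a⁻¹ * ((q * a * q⁻¹ * a⁻¹)⁻¹ * a) := by
            rw [h.cen _ (inv_mem (h.QQ hq ha)) a (h.QS_le_P _ ha)]
          _ = _ := by group }
  have hle : QS X Z Set.univ ≤ D := by
    refine QS_le (fun x hx => ⟨Z_le_QS X Z _ hx, ?_⟩) fun b _ x hx => ⟨le_QS X Z (Set.mem_univ _) hx, ?_⟩
    · rw [hf1 x hx, ← h.cen x hx q hqP]; group
    · exact h1 b (by rw [Set.Finite.mem_toFinset]; exact Set.mem_univ b) x hx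
  exact (hle hv).2

/-- `[p, Q] ≤ QS S` from the generators. -/
theorem comm_mem (h : Loc X Z P op g) {p : G} (hp : p ∈ P) {S : Set ι}
    (hS : ∀ c, ∀ x ∈ X c, p * x * p⁻¹ * x⁻¹ ∈ QS X Z S) {q : G} (hq : q ∈ QS X Z Set.univ) :
    p * q * p⁻¹ * q⁻¹ ∈ QS X Z S := by
  let D : Subgroup G :=
    { carrier := {q | q ∈ QS X Z Set.univ ∧ p * q * p⁻¹ * q⁻¹ ∈ QS X Z S}
      one_mem' := ⟨one_mem _, by rw [mul_one, mul_inv_cancel, inv_one, mul_one]; exact one_mem _⟩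
      mul_mem' := by
        rintro a b ⟨ha, ha2⟩ ⟨hb, hb2⟩
        refine ⟨mul_mem ha hb, ?_⟩
        have e : p * (a * b) * p⁻¹ * (a * b)⁻¹ = (p * a * p⁻¹ * a⁻¹) * (a * (p * b * p⁻¹ * b⁻¹) * a⁻¹) := by group
        rw [e]
        exact mul_mem ha2 (h.Q_norm _ ha hb2)
      inv_mem' := by
        rintro a ⟨ha, ha2⟩
        refine ⟨inv_mem ha, ?_⟩
        have e : p * a⁻¹ * p⁻¹ * a⁻¹⁻¹ = a⁻¹ * (p * a * p⁻¹ * a⁻¹)⁻¹ * a⁻¹⁻¹ := by group
        rw [e]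
        exact h.Q_norm _ (inv_mem ha) (inv_mem ha2) }
  have hle : QS X Z Set.univ ≤ D := by
    refine QS_le (fun x hx => ⟨Z_le_QS X Z _ hx, ?_⟩) fun b _ x hx => ⟨le_QS X Z (Set.mem_univ _) hx, hS b x hx⟩
    have e : p * x * p⁻¹ * x⁻¹ = 1 := by rw [← h.cen x hx p hp]; group
    rw [e]; exact one_mem _
  exact (hle hq).2

/-- An element trivial on `P/Q` normalises `X b Z`, `b` good. -/
theorem conj_mem_b [Finite ι] (h : Loc X Z P op g) {n : G}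
    (hnQ : ∀ q ∈ QS X Z Set.univ, n * q * n⁻¹ ∈ QS X Z Set.univ) (hnZ : ∀ x ∈ Z, n * x * n⁻¹ ∈ Z)
    (hnP : ∀ p ∈ P, n * p * n⁻¹ * p⁻¹ ∈ QS X Z Set.univ) {b : ι} (hb : b ∈ g)
    {u : G} (hu : u ∈ X b) : ∃ u' ∈ X b, ∃ z ∈ Z, n * u * n⁻¹ = u' * z := by
  have h1 : n * u * n⁻¹ ∈ QS X Z {b} := by
    refine h.mem_QS (hnQ u (le_QS X Z (Set.mem_univ _) hu)) fun b' hne y hy => ?_
    obtain ⟨p, hp, S, hbS, hS, hsur⟩ := h.sep b hb b' hne
    refine h.comm_of_not_mem (S := S) hbS ?_ hy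
    obtain ⟨x, hx, z, hz, e⟩ := hsur u hu
    have hx' := hnQ x hx
    have hq1 := hnP p hp
    set x' := n * x * n⁻¹ with hx'd
    set q1 := n * p * n⁻¹ * p⁻¹ with hq1d
    have hzP := h.ZP hz
    have e2 : n * u * n⁻¹ = q1 * (p * x' * p⁻¹ * x'⁻¹) * q1⁻¹ * (q1 * x' * q1⁻¹ * x'⁻¹) * (n * z⁻¹ * n⁻¹) := by
      have e3 : u = p * x * p⁻¹ * x⁻¹ * z⁻¹ := by rw [e]; group
      rw [e3, hq1d, hx'd]; group
    rw [e2]
    exact mul_mem (mul_mem (h.Q_norm _ hq1 (h.comm_mem hp hS hx')) (Z_le_QS X Z _ (h.QQ hq1 hx')))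
      (Z_le_QS X Z _ (hnZ _ (inv_mem hz)))
  obtain ⟨u', hu', z, hz, e⟩ := h.split (Set.mem_singleton b) h1
  have h2 : QS X Z (({b} : Set ι) \ {b}) ≤ Z := QS_le le_rfl fun c hc => absurd hc.1 hc.2
  exact ⟨u', hu', z, h2 hz, e⟩

/-- the elements of `Q` on which `n` is trivial modulo `Z` -/
def FF (h : Loc X Z P op g) {n : G} (hnZ : ∀ x ∈ Z, n * x * n⁻¹ ∈ Z) : Subgroup G where
  carrier := {q | q ∈ P ∧ n * q * n⁻¹ * q⁻¹ ∈ Z}
  one_mem' := ⟨one_mem _, by rw [mul_one, mul_inv_cancel, inv_one, mul_one]; exact one_mem _⟩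
  mul_mem' := by
    rintro a b ⟨ha, ha2⟩ ⟨hb, hb2⟩
    refine ⟨mul_mem ha hb, ?_⟩
    have e : n * (a * b) * n⁻¹ * (a * b)⁻¹ = (n * a * n⁻¹ * a⁻¹) * (a * (n * b * n⁻¹ * b⁻¹) * a⁻¹) := by group
    rw [e, ← h.cen _ hb2 a ha, mul_inv_cancel_right]
    exact mul_mem ha2 hb2
  inv_mem' := by
    rintro a ⟨ha, ha2⟩
    refine ⟨inv_mem ha, ?_⟩
    have e : n * a⁻¹ * n⁻¹ * a⁻¹⁻¹ = a⁻¹ * ((n * a * n⁻¹ * a⁻¹)⁻¹ * a) := by group
    rw [e, h.cen _ (inv_mem ha2) a ha, inv_mul_cancel_left]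
    exact inv_mem ha2

/-- A 2-element commuting with `P` on `Q/Z` is trivial there. -/
theorem lin [Finite ι] [Finite G] (h : Loc X Z P op g) {n : G}
    (hn2 : IsPGroup 2 (zpowers n))
    (hnQ : ∀ q ∈ QS X Z Set.univ, n * q * n⁻¹ ∈ QS X Z Set.univ) (hnZ : ∀ x ∈ Z, n * x * n⁻¹ ∈ Z)
    (hnP : ∀ p ∈ P, n * p * n⁻¹ * p⁻¹ ∈ QS X Z Set.univ) {q : G} (hq : q ∈ QS X Z Set.univ) :
    n * q * n⁻¹ * q⁻¹ ∈ Z := by
  obtain ⟨k, hk⟩ := hn2 ⟨n, mem_zpowers n⟩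
  have hk' : n ^ 2 ^ k = 1 := congrArg Subtype.val hk
  -- on `X b`, `b` good
  have hb : ∀ b ∈ g, ∀ u ∈ X b, n * u * n⁻¹ * u⁻¹ ∈ Z := by
    intro b hb u hu
    by_cases hu1 : u = 1
    · rw [hu1, mul_one, mul_inv_cancel, inv_one, mul_one]; exact one_mem _
    have hcard : 2 ∣ Nat.card (X b) := by
      have h1 : orderOf u = 2 := orderOf_eq_prime (by rw [pow_two]; exact h.sq b hb u hu) hu1
      rw [← h1, ← Subgroup.orderOf_mk u hu]
      exact orderOf_dvd_natCard _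
    obtain ⟨u0, hu0, hu01, hfix⟩ := D7Ex.exists_fix (Z := Z) hk' hcard (fun x hx hx' => h.inf_eq hx hx') hnZ
      (fun u hu => h.conj_mem_b hnQ hnZ hnP hb hu)
    obtain ⟨p, hp, e⟩ := h.tor b hb u0 hu0 u hu hu01 hu1
    have hq1 := hnP p hp
    set q1 := n * p * n⁻¹ * p⁻¹ with hq1d
    set z := u0⁻¹ * (n * u0 * n⁻¹) with hzd
    have huQ : u ∈ QS X Z Set.univ := le_QS X Z (Set.mem_univ _) hu
    have hzu := h.cen z hfix u (h.QS_le_P _ huQ)
    have hzp := h.cen z hfix _ (inv_mem hp)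
    have e2 : n * u * n⁻¹ * u⁻¹ = (q1 * u * q1⁻¹ * u⁻¹) * z := by
      calc n * u * n⁻¹ * u⁻¹ = (q1 * p) * (u0 * z) * (q1 * p)⁻¹ * u⁻¹ := by
            rw [← e, hq1d, hzd]; group
        _ = q1 * p * u0 * (z * p⁻¹) * q1⁻¹ * u⁻¹ := by group
        _ = q1 * (p * u0 * p⁻¹) * (z * q1⁻¹) * u⁻¹ := by rw [hzp]; group
        _ = q1 * u * q1⁻¹ * (z * u⁻¹) := by
          rw [e, h.cen z hfix _ (h.QS_le_P _ (inv_mem hq1))]; group
        _ = _ := by rw [h.cen z hfix _ (h.QS_le_P _ (inv_mem huQ))]; group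
    rw [e2]
    exact mul_mem (h.QQ hq1 huQ) hfix
  have hg : QS X Z g ≤ h.FF hnZ := by
    refine QS_le (fun x hx => ⟨h.ZP hx, mul_mem (hnZ x hx) (inv_mem hx)⟩) fun b hb' x hx =>
      ⟨h.XP b hx, hb b hb' x hx⟩
  -- the other indices
  have hb2 : ∀ b, ∀ u ∈ X b, n * u * n⁻¹ * u⁻¹ ∈ Z := by
    intro b u hu
    by_cases hbg : b ∈ g
    · exact hb b hbg u hu
    obtain ⟨p, hp, x, hx, y, hy, z, hz, e⟩ := h.short b hbg u hu
    obtain ⟨hyP, hy2⟩ := hg hy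
    have hyQ := QS_mono X Z (Set.subset_univ g) hy
    have hq1 := hnP p hp
    set q1 := n * p * n⁻¹ * p⁻¹ with hq1d
    set z1 := n * y * n⁻¹ * y⁻¹ with hz1d
    have enp : n * p * n⁻¹ = q1 * p := by rw [hq1d]; group
    have eny : n * y * n⁻¹ = z1 * y := by rw [hz1d]; group
    have hw : p * y * p⁻¹ ∈ QS X Z Set.univ := h.PQ hp hyQ
    have hwF : p * y * p⁻¹ ∈ h.FF hnZ := by
      refine ⟨h.QS_le_P _ hw, ?_⟩
      have hq3 : q1 * (p * y * p⁻¹) * q1⁻¹ * (p * y * p⁻¹)⁻¹ ∈ Z := h.QQ hq1 hw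
      have e1 : n * (p * y * p⁻¹) * n⁻¹ * (p * y * p⁻¹)⁻¹ =
          z1 * (q1 * (p * y * p⁻¹) * q1⁻¹ * (p * y * p⁻¹)⁻¹) := by
        calc n * (p * y * p⁻¹) * n⁻¹ * (p * y * p⁻¹)⁻¹
            = (n * p * n⁻¹) * (n * y * n⁻¹) * (n * p * n⁻¹)⁻¹ * (p * y * p⁻¹)⁻¹ := by group
          _ = (q1 * p) * z1 * y * (q1 * p)⁻¹ * (p * y * p⁻¹)⁻¹ := by rw [enp, eny]; group
          _ = z1 * (q1 * p) * y * (q1 * p)⁻¹ * (p * y * p⁻¹)⁻¹ := by
              rw [h.cen z1 hy2 _ (mul_mem (h.QS_le_P _ hq1) hp)]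
          _ = _ := by group
      rw [e1]
      exact mul_mem hy2 hq3
    have hu' : u ∈ h.FF hnZ := by
      rw [e]
      exact mul_mem (mul_mem (hg hx) hwF) (hg hz)
    exact hu'.2
  have hle : QS X Z Set.univ ≤ h.FF hnZ :=
    QS_le (fun x hx => ⟨h.ZP hx, mul_mem (hnZ x hx) (inv_mem hx)⟩) fun b _ x hx => ⟨h.XP b hx, hb2 b x hx⟩
  exact (hle hq).2

/-- A perfect group has no nontrivial homomorphism to the abelian group `Z`. -/
theorem noh (h : Loc X Z P op g) (hP : ⁅P, P⁆ = P) (f : P →* Z) (p : P) : f p = 1 := by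
  have h1 : commutator P = ⊤ := by
    have h3 : (commutator P).map P.subtype = P := by
      rw [_root_.commutator_def, map_commutator, ← MonoidHom.range_eq_map, P.range_subtype, hP]
    have h4 : (⊤ : Subgroup P).map P.subtype = P := by
      rw [← MonoidHom.range_eq_map, P.range_subtype]
    exact map_injective P.subtype_injective (h3.trans h4.symm)
  have h2 : commutator P ≤ f.ker := by
    rw [_root_.commutator_def, commutator_le]
    intro a _ b _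
    rw [MonoidHom.mem_ker, map_commutatorElement, commutatorElement_eq_one_iff_mul_comm]
    exact Subtype.ext (h.cen _ (f a).2 _ (h.ZP (f b).2))
  have h3 : p ∈ f.ker := h2 (by rw [h1]; exact mem_top p)
  exact h3

/-- **All fields of `D7Ex.Setup`** -/
theorem setup [Finite ι] [Finite G] (h : Loc X Z P op g) {t : G} {H : Subgroup G} (tt : t * t = 1) (tZ : t ∉ Z)
    (tP : ∀ p ∈ P, t * p = p * t) (tH : ∀ h ∈ H, t * h = h * t) (HZ : ∀ h ∈ H, ∀ x ∈ Z, h * x * h⁻¹ ∈ Z)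
    (hP : ⁅P, P⁆ = P)
    (nP : ∀ n : G, (∀ x ∈ Z, n * x * n⁻¹ ∈ Z) → t * (n * t * n⁻¹) ∈ Z →
      (∀ p ∈ P, n * p * n⁻¹ ∈ P) ∧ (∀ q ∈ QS X Z Set.univ, n * q * n⁻¹ ∈ QS X Z Set.univ)) :
    D7Ex.Setup t Z (QS X Z Set.univ) P H where
  tt := tt
  tX := tZ
  X2 := h.Z2
  XQ := Z_le_QS X Z _
  QP := h.QS_le_P _
  tP := tP
  XP := h.cen
  PQ := fun p hp q hq => h.PQ hp hq
  tH := tH
  HX := HZ
  nP := nP
  XQQ := h.XQQ
  QQ := fun v hv w hw => h.QQ hv hw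
  ZQ := fun q hq hc => h.ZQ hq hc
  E2 := fun f h1 h2 h3 h4 => h.E2 f h1 h2 h3 h4
  noh := fun f p => h.noh hP f p

/-- the hypothesis `Lin` of `exists_cent_of_big` -/
theorem linD [Finite ι] [Finite G] (h : Loc X Z P op g) : D7Ex.Lin Z (QS X Z Set.univ) P :=
  fun _ hn2 hnQ hnZ hnP _ hq => h.lin hn2 hnQ hnZ hnP hq

end Loc

end Cfsg.Agent.OddHalf.D7Tw

end

-- merged: Cfsg.Agent.KFacts.TwESix.QRho
section

/-!
# `²E₆(q)`: the stabiliser of the highest root group (packet [B1])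

`P = ⟨X b : b 0 ≥ 0⟩` (`= RGD.Sup X (Ge ρ)`), `Q = ⟨X b : b 0 ≥ 1⟩` (`= RGD.Sup X (Rad ρ)`), `Z = X ρ`.

* `loc` : the local structure `D7Tw.Loc` at `ρ`;
* `perfect` : `⁅P, P⁆ = P`;
* `QS_eq` : the group `Q` of `Loc` is `RGD.Sup X (Rad ρ)`.
-/

set_option autoImplicit false
set_option linter.unusedSectionVars false

namespace Cfsg.Agent.KFacts.TwESix.QRho

open CoxeterSystem Cfsg.Agent.ChevalleyStructure.CoxeterGeom Cfsg.Agent.Tits.Roots Cfsg.Agent.Tits.Core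
  Cfsg.Agent.Tits.RootComb Cfsg.Agent.Tits.Exchange Cfsg.Agent.Nodes.Reps Cfsg.Agent.Nodes.BNOf
  Cfsg.Agent.Nodes.StabComb Cfsg.Agent.Nodes.Bruhat Cfsg.Agent.Nodes.OppDec
  Cfsg.Agent.Nodes.Coroot Cfsg.Agent.KFacts.RgdSL Cfsg.Agent.KFacts.RgdTI Cfsg.Agent.KFacts.RgdOdd
  Cfsg.Agent.KFacts.RgdEx
  Cfsg.Agent.Nodes.RGDTwE6 Cfsg.Agent.KFacts.TwESix.Comb Cfsg.Agent.KFacts.TwESix.CombRho
  Cfsg.Agent.KFacts.TwESix.Facts Cfsg.Agent.OddHalf.D7Tw
open scoped commutatorElement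

/-- The roots `b` with `⟨b, ρ^∨⟩ = 1`. -/
abbrev Ix := {b : Fin 4 → ℤ // b ∈ rts ∧ b 0 = 1}

instance : Finite Ix := by
  have h1 : {b : Fin 4 → ℤ | b ∈ rts}.Finite := List.finite_toSet rts
  exact (h1.subset (fun b (hb : b ∈ rts ∧ b 0 = 1) => hb.1)).to_subtype

/-- `b ↦ ρ - b` -/
def op (b : Ix) : Ix := ⟨rho - b.1, (op_mem b.1 b.2.1 b.2.2).1, (op_mem b.1 b.2.1 b.2.2).2.1⟩

/-- the long ones -/
def gd : Set Ix := {b | bf b.1 b.1 = 4}

theorem op_val (b : Ix) : (op b).1 = rho - b.1 := rfl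

theorem add_op (b : Ix) : b.1 + (op b).1 = rho := by rw [op_val]; abel

variable {W Y : Type*} [Group W] [Group Y] {cs : CoxeterSystem CoxeterMatrix.F₄ W} {T : Subgroup Y} {n : Fin 4 → Y}
  {X : (Fin 4 → ℤ) → Subgroup Y}

theorem root (b : Ix) : IsRoot cs isCartan b.1 := (mem_rts cs).2 b.2.1

theorem Ge_eq : Ge cs isCartan rho = {b | IsRoot cs isCartan b ∧ 0 ≤ b 0} := by
  ext b
  simp only [Ge, Set.mem_ofPred_eq, cpr_rho]

theorem Rad_eq : Rad cs isCartan rho = {b | IsRoot cs isCartan b ∧ 1 ≤ b 0} := by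
  ext b
  simp only [Rad, Set.mem_ofPred_eq, cpr_rho]

/-- `P = ⟨X b : b 0 ≥ 0⟩` -/
abbrev PP (cs : CoxeterSystem CoxeterMatrix.F₄ W) (X : (Fin 4 → ℤ) → Subgroup Y) : Subgroup Y :=
  RGD.Sup X (Ge cs isCartan rho)

/-- `Q = ⟨X b : b 0 ≥ 1⟩` -/
abbrev QQ (cs : CoxeterSystem CoxeterMatrix.F₄ W) (X : (Fin 4 → ℤ) → Subgroup Y) : Subgroup Y :=
  RGD.Sup X (Rad cs isCartan rho)

theorem le_PP {b : Fin 4 → ℤ} (hb : IsRoot cs isCartan b) (h0 : 0 ≤ b 0) : X b ≤ PP cs X :=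
  RGD.le_Sup (by rw [Ge_eq]; exact ⟨hb, h0⟩)

theorem le_QQ {b : Fin 4 → ℤ} (hb : IsRoot cs isCartan b) (h0 : 1 ≤ b 0) : X b ≤ QQ cs X :=
  RGD.le_Sup (by rw [Rad_eq]; exact ⟨hb, h0⟩)

theorem PP_le {D : Subgroup Y} (h : ∀ b, IsRoot cs isCartan b → 0 ≤ b 0 → X b ≤ D) : PP cs X ≤ D :=
  RGD.Sup_le fun b hb => by
    rw [Ge_eq] at hb
    exact h b hb.1 hb.2

theorem QQ_le {D : Subgroup Y} (h : ∀ b, IsRoot cs isCartan b → 1 ≤ b 0 → X b ≤ D) : QQ cs X ≤ D :=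
  RGD.Sup_le fun b hb => by
    rw [Rad_eq] at hb
    exact h b hb.1 hb.2

theorem QS_eq : QS (fun b : Ix => X b.1) (X rho) Set.univ = QQ cs X := by
  apply le_antisymm
  · refine QS_le (le_QQ (rho_root cs) (by decide)) fun b _ => le_QQ (root b) (by rw [b.2.2])
  · refine QQ_le fun b hb h1 => ?_
    have h2 := zero_le b ((mem_rts cs).1 hb)
    by_cases h3 : b 0 = 2
    · rw [eq_rho b ((mem_rts cs).1 hb) h3]
      exact Z_le_QS _ _ _
    · exact le_QS (fun b : Ix => X b.1) (X rho) (b := ⟨b, (mem_rts cs).1 hb, by omega⟩) (Set.mem_univ _)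

theorem QQ_le_PP : QQ cs X ≤ PP cs X := QQ_le fun _ hb h1 => le_PP hb (by omega)

section RR

variable (R : RGD cs isCartan 2 T n X)

include R

/-- `P` normalises `Q`. -/
theorem PP_normalizer : PP cs X ≤ Subgroup.normalizer (QQ cs X : Set Y) := by
  have key : ∀ c, IsRoot cs isCartan c → 0 ≤ c 0 → ∀ v ∈ X c, ∀ q ∈ QQ cs X, v * q * v⁻¹ ∈ QQ cs X := by
    intro c hc hc0 v hv
    have hle : QQ cs X ≤ (QQ cs X).comap (MulAut.conj v).toMonoidHom := by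
      refine QQ_le fun a ha ha1 x hx => ?_
      show v * x * v⁻¹ ∈ QQ cs X
      by_cases hca : c = a
      · subst hca
        exact mul_mem (mul_mem (le_QQ ha ha1 hv) (le_QQ ha ha1 hx)) (inv_mem (le_QQ ha ha1 hv))
      have hne : c ≠ -a := by
        rintro rfl
        rw [Pi.neg_apply] at hc0
        omega
      have h1 := R.comm c a hc ha hca hne v hv x hx
      have h2 : btw cs isCartan X c a ≤ QQ cs X := by
        refine iSup_le fun z => ?_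
        obtain ⟨hz, m, s, t, hm, hs, ht, he⟩ := z.2
        refine le_QQ hz ?_
        have h3 := congrFun he 0
        simp only [Pi.add_apply, Pi.smul_apply, smul_eq_mul] at h3
        have h4 : 0 < m * z.1 0 := by rw [h3]; nlinarith
        exact (pos_iff_pos_of_mul_pos h4).1 hm
      have e : v * x * v⁻¹ = ⁅v, x⁆ * x := by rw [commutatorElement_def]; group
      rw [e]
      exact mul_mem (h2 h1) (le_QQ ha ha1 hx)
    intro q hq
    exact hle hq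
  refine PP_le fun c hc hc0 v hv => ?_
  rw [Subgroup.mem_normalizer_iff]
  intro q
  constructor
  · exact key c hc hc0 v hv q
  · intro hq
    have := key c hc hc0 v⁻¹ (inv_mem hv) _ hq
    have e : v⁻¹ * (v * q * v⁻¹) * v⁻¹⁻¹ = q := by group
    rwa [e] at this

variable {R}
variable (D : Dat R)

include D

theorem comm1' {a b : Ix} (hab : b ≠ op a) {x y : Y} (hx : x ∈ X a.1) (hy : y ∈ X b.1) : x * y = y * x := by
  have hab' : b.1 ≠ rho - a.1 := fun h => hab (Subtype.ext h)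
  rcases comm1 a.1 a.2.1 a.2.2 b.1 b.2.1 b.2.2 hab' with ⟨h1, h2⟩ | ⟨h1, h2⟩ | ⟨h1, h2, h3⟩
  · exact (comm_long D (root b) (root a) h1 h2 hy hx).symm
  · exact comm_long D (root a) (root b) h1 h2 hx hy
  · rcases h3 with h3 | h3
    · rw [← h3] at hy
      exact abel R (root a) hx hy
    · exact comm_60 R (root a) (root b) h1 h2 h3 hx hy

/-- `ρ` and `Φ₁`, `b` long -/
theorem a2_op {b : Ix} (hb : bf b.1 b.1 = 4) : A2 cs isCartan b.1 (op b).1 := by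
  obtain ⟨h1, h2, h3, h4⟩ := op_mem b.1 b.2.1 b.2.2
  rw [if_pos hb] at h4
  exact a2 cs (root b) (root (op b)) h3.symm (by rw [op_val, h4, hb])

theorem orth_op {b : Ix} (hb : bf b.1 b.1 ≠ 4) : bf b.1 b.1 = 2 ∧ bf (op b).1 (op b).1 = 2 ∧ bf b.1 (op b).1 = 0 := by
  obtain ⟨h1, h2, h3, h4⟩ := op_mem b.1 b.2.1 b.2.2
  rw [if_neg hb] at h4
  have h5 := (norm cs (root b)).resolve_left hb
  refine ⟨h5, by rw [op_val, h3, h5], by rw [op_val]; omega⟩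

theorem cen_PP {z p : Y} (hz : z ∈ X rho) (hp : p ∈ PP cs X) : z * p = p * z := by
  have : Finite W := finiteW cs
  exact ((D.lr rho (rho_root cs) rho_long).comm' hp hz).symm

/-- the commutators with a long root group orthogonal to `ρ` -/
theorem sep_mem {d : Fin 4 → ℤ} (hd : IsRoot cs isCartan d) (hd0 : d 0 = 0) (hdd : bf d d = 4) {p : Y} (hp : p ∈ X d)
    (c : Ix) {x : Y} (hx : x ∈ X c.1) :
    p * x * p⁻¹ * x⁻¹ ∈ QS (fun b : Ix => X b.1) (X rho) {b : Ix | bf b.1 d = 2} := by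
  rw [← commutatorElement_def]
  rcases sep_comm d ((mem_rts cs).1 hd) hd0 hdd c.1 c.2.1 c.2.2 with h1 | ⟨h1, h2, h3, h4, h5⟩ |
    ⟨h1, h2, h3, h4, h5, h6⟩
  · have h2 := comm_long D (root c) hd hdd h1 hx hp
    rw [commutatorElement_eq_one_iff_mul_comm.2 h2.symm]
    exact one_mem _
  · have hA : A2 cs isCartan d c.1 := a2 cs hd (root c) (by rw [hdd, h1]) (by rw [bf_comm, h2, hdd]; norm_num)
    have : Finite W := finiteW cs
    exact le_QS (fun b : Ix => X b.1) (X rho) (S := {b : Ix | bf b.1 d = 2}) (b := ⟨d + c.1, h4, h5⟩) h3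
      (hA.comm_mem R hp hx)
  · have h7 := btw_135 R hd (root c) hdd h1 h2 hp hx
    rw [h6] at h7
    refine (sup_le ?_ (Z_le_QS _ _ _)) h7
    exact le_QS (fun b : Ix => X b.1) (X rho) (S := {b : Ix | bf b.1 d = 2}) (b := ⟨d + c.1, h4, h5⟩) h3

/-- **The local structure at `X ρ`.** -/
theorem loc : Loc (fun b : Ix => X b.1) (X rho) (PP cs X) op gd := by
  have : Finite W := finiteW cs
  refine
    { Z2 := fun z hz => sq R (rho_root cs) hz
      opop := fun b => Subtype.ext (by rw [op_val, op_val]; abel)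
      ZP := le_PP (rho_root cs) (by decide)
      cen := fun z hz p hp => cen_PP D hz hp
      XP := fun b => le_PP (root b) (by rw [b.2.2]; norm_num)
      comm := fun a b hab x hx y hy => comm1' D hab hx hy
      brk := ?_
      nd := ?_
      onto := ?_
      norm := ?_
      ex := ?_
      sep := ?_
      tor := ?_
      sq := fun b _ x hx => sq R (root b) hx
      short := ?_ }
  · -- brk
    intro a x hx y hy
    rw [← commutatorElement_def, ← add_op a]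
    by_cases ha : bf a.1 a.1 = 4
    · exact (a2_op D ha).comm_mem R hx hy
    · obtain ⟨h1, h2, h3⟩ := orth_op D ha
      exact orth_mem R (root a) (root (op a)) h1 h2 h3 hx hy
  · -- nd
    intro a x hx hc
    by_contra hx1
    by_cases ha : bf a.1 a.1 = 4
    · obtain ⟨y, hy, hy1⟩ := exists_ne_one R (root (cs := cs) (op a))
      exact (a2_op D ha).comm_ne_one R hx hx1 hy hy1 (commutatorElement_eq_one_iff_mul_comm.2 (hc y hy))
    · obtain ⟨h1, h2, h3⟩ := orth_op D ha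
      obtain ⟨y, hy, hne⟩ := orth_nd D (root a) (root (op a)) h1 h2 h3 hx hx1
      exact hne (hc y hy)
  · -- onto
    have hb : (![1, 2, 2, 0] : Fin 4 → ℤ) ∈ rts ∧ (![1, 2, 2, 0] : Fin 4 → ℤ) 0 = 1 := by decide +kernel
    refine ⟨⟨![1, 2, 2, 0], hb⟩, fun z hz => ?_⟩
    have ha : bf (![1, 2, 2, 0] : Fin 4 → ℤ) ![1, 2, 2, 0] = 4 := by decide +kernel
    obtain ⟨x, hx, hx1⟩ := exists_ne_one R (root (cs := cs) ⟨![1, 2, 2, 0], hb⟩)
    rw [← add_op ⟨![1, 2, 2, 0], hb⟩] at hz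
    obtain ⟨v, hv, e⟩ := (a2_op D (b := ⟨![1, 2, 2, 0], hb⟩) ha).comm_surj R hx hx1 hz
    rw [← e]
    exact Subgroup.commutator_mem_commutator hx hv
  · -- norm
    intro p hp a x hx
    rw [QS_eq (cs := cs)]
    exact (Subgroup.mem_normalizer_iff.1 (PP_normalizer R hp) x).1 (le_QQ (root a) (by rw [a.2.2]) hx)
  · -- ex
    intro b
    obtain ⟨d, hd, hd0, ha, h1, h2, h3, h4, h5⟩ := ex b.1 b.2.1 b.2.2
    have hdr := (mem_rts cs).2 hd
    obtain ⟨p, hp, hp1⟩ := exists_ne_one R hdr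
    have ha0 : (b.1 - d) 0 = 1 := by rw [Pi.sub_apply, b.2.2, hd0]; norm_num
    refine ⟨p, le_PP hdr (by rw [hd0]) hp, ⟨b.1 - d, ha, ha0⟩, fun h => h5 (congrArg Subtype.val h), ?_, ?_⟩
    · intro u hu
      have hA : A2 cs isCartan d (b.1 - d) := a2 cs hdr ((mem_rts cs).2 ha) (by rw [h1, h2]) (by rw [h3, h1])
      obtain ⟨x, hx, e⟩ := hA.comm_surj R hp hp1 (w := u) (by rw [add_sub_cancel]; exact hu)
      exact ⟨x, hx, 1, one_mem _, by rw [mul_one, ← e, commutatorElement_def]⟩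
    · intro y hy
      have hop := op_mem b.1 b.2.1 b.2.2
      have hA : A2 cs isCartan d (rho - b.1) := a2 cs hdr ((mem_rts cs).2 hop.1) (by rw [h1, hop.2.2.1])
        (by rw [h4, h1])
      have e0 : rho - (b.1 - d) = d + (rho - b.1) := by abel
      have hy' : y ∈ X (d + (rho - b.1)) := by
        rw [← e0]; exact hy
      obtain ⟨c, hc, e⟩ := hA.comm_surj R hp hp1 hy'
      exact ⟨c, hc, 1, one_mem _, by rw [mul_one, ← e, commutatorElement_def]⟩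
  · -- sep
    intro b hb b' hne
    obtain ⟨d, hd, hd0, hdd, h1, h2, h3⟩ := sep b.1 b.2.1 b.2.2 hb b'.1 b'.2.1 b'.2.2 fun h => hne (Subtype.ext h)
    have hdr := (mem_rts cs).2 hd
    obtain ⟨p, hp, hp1⟩ := exists_ne_one R hdr
    have ha0 : (b.1 - d) 0 = 1 := by rw [Pi.sub_apply, b.2.2, hd0]; norm_num
    refine ⟨p, le_PP hdr (by rw [hd0]) hp, {b : Ix | bf b.1 d = 2}, h2, fun c x hx => sep_mem D hdr hd0 hdd hp c hx,
      fun u hu => ?_⟩
    have hb' : bf b.1 b.1 = 4 := hb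
    have hA : A2 cs isCartan d (b.1 - d) := by
      refine a2 cs hdr ((mem_rts cs).2 h3) ?_ ?_
      · rw [bf_sub_left, bf_sub_right, bf_sub_right, bf_comm d b.1, h1, hdd, hb']; norm_num
      · rw [bf_sub_right, bf_comm d b.1, h1, hdd]; norm_num
    obtain ⟨x, hx, e⟩ := hA.comm_surj R hp hp1 (w := u) (by rw [add_sub_cancel]; exact hu)
    exact ⟨x, le_QS (fun b : Ix => X b.1) (X rho) (b := ⟨b.1 - d, h3, ha0⟩) (Set.mem_univ _) hx, 1, one_mem _,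
      by rw [mul_one, ← e, commutatorElement_def]⟩
  · -- tor
    intro b hb x hx y hy hx1 hy1
    have hb' : bf b.1 b.1 = 4 := hb
    obtain ⟨d, hd, hd0, hdd, h1⟩ := tor b.1 b.2.1 b.2.2 hb
    have hdr := (mem_rts cs).2 hd
    have hA : A2 cs isCartan d b.1 := a2 cs hdr (root b) (by rw [hdd, hb']) (by rw [h1, hdd])
    obtain ⟨t, ht, e⟩ := hA.tor_trans R hx hx1 hy hy1
    refine ⟨t, ?_, e⟩
    refine (sup_le (le_PP hdr (by rw [hd0])) (le_PP hdr.neg ?_)) ht.2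
    rw [Pi.neg_apply, hd0]; norm_num
  · -- short
    intro b hb u hu
    have hb' : bf b.1 b.1 = 2 := (norm cs (root b)).resolve_left hb
    obtain ⟨c, hc, hc0, hcc, d, hd, hd0, hdd, hcd, hs, hl, hll, hl0⟩ := short b.1 b.2.1 b.2.2 hb'
    have hcr := (mem_rts cs).2 hc
    have hdr := (mem_rts cs).2 hd
    obtain ⟨x, hx, hx1⟩ := exists_ne_one R hcr
    obtain ⟨v, hv, z, hz, e⟩ := surj_135 D hcr hdr hcc hdd hcd (by rw [hs]; exact root b) ((mem_rts cs).2 hl) hx hx1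
      (w := u) (by rw [hs]; exact hu)
    have hxg : x ∈ QS (fun b : Ix => X b.1) (X rho) gd :=
      le_QS (fun b : Ix => X b.1) (X rho) (b := ⟨c, hc, hc0⟩) hcc hx
    have hzg : z ∈ QS (fun b : Ix => X b.1) (X rho) gd :=
      le_QS (fun b : Ix => X b.1) (X rho) (b := ⟨c + (2 : ℤ) • d, hl, hl0⟩) hll hz
    refine ⟨v, le_PP hdr (by rw [hd0]) hv, x, hxg, x⁻¹, inv_mem hxg, z⁻¹, inv_mem hzg, ?_⟩
    rw [eq_mul_inv_iff_mul_eq, ← e, commutatorElement_def]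
    group

/-- **`P` is perfect.** -/
theorem perfect : ⁅PP cs X, PP cs X⁆ = PP cs X := by
  have : Finite W := finiteW cs
  refine le_antisymm (Subgroup.commutator_le_self _) (PP_le fun b hb hb0 w hw => ?_)
  rcases perf b ((mem_rts cs).1 hb) hb0 with ⟨c, hc, hc0, d, hd, hd0, h1, h2, h3⟩ | ⟨h0, c, hc, hc0, d, hd, hd0, h1, h2, h3, h4⟩
  · have hcr := (mem_rts cs).2 hc
    have hdr := (mem_rts cs).2 hd
    have hA : A2 cs isCartan c d := a2 cs hcr hdr h1 h2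
    obtain ⟨u, hu, hu1⟩ := exists_ne_one R hcr
    obtain ⟨v, hv, e⟩ := hA.comm_surj R hu hu1 (w := w) (by rw [h3]; exact hw)
    rw [← e]
    exact Subgroup.commutator_mem_commutator (le_PP hcr hc0 hu) (le_PP hdr hd0 hv)
  · have hcr := (mem_rts cs).2 hc
    have hdr := (mem_rts cs).2 hd
    obtain ⟨u, hu, v, hv, e⟩ := orth_surj D hcr hdr h1 h2 h3 (w := w) (by rw [h4]; exact hw)
    rw [← e]
    exact Subgroup.commutator_mem_commutator (le_PP hcr hc0 hu) (le_PP hdr hd0 hv)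

end RR

end Cfsg.Agent.KFacts.TwESix.QRho

end
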