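import Mathlib
import Cfsg.Agent.KFacts.TwESix.Btw
import Cfsg.Agent.KFacts.RgdEx
import Cfsg.Agent.KFacts.TwESix.QRho

-- merged: Cfsg.Agent.KFacts.GrIrr
section

/-!
# Irreducibility of a graded group modulo its centre (K-facts (H4) of ODD D7)

`Gr Z Q X`: `Q / Z` is abelian, the direct product of the groups `X b Z / Z`. `Op g c`: the element `g` maps
`x ∈ X b` to `x y z`, `y ∈ X (c b)`, `z ∈ Z`, `y ≠ 1` for `x ≠ 1`, or to `x z` if `c b = none`.
* `exists_single`: if any two indices are separated by operators in `H`, then every `H`-invariant subgroup of `Q`, not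
  contained in `Z`, contains an element `x z`, `1 ≠ x ∈ X b`, `z ∈ Z`;
* `eq_of_le`: an invariant subgroup `N` with `X b ≤ N Z` for all `b` is `Q`, if `Z ≤ [Q, Q]`.
-/

set_option autoImplicit false

namespace Cfsg.Agent.KFacts.GrIrr

open scoped commutatorElement

variable {G ι : Type*} [Group G]

/-- `Z` and the groups `X b`, `b ∈ S`. -/
def QS (Z : Subgroup G) (X : ι → Subgroup G) (S : Set ι) : Subgroup G := Z ⊔ ⨆ b ∈ S, X b

theorem Z_le_QS {Z : Subgroup G} {X : ι → Subgroup G} {S : Set ι} : Z ≤ QS Z X S := le_sup_left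

theorem X_le_QS {Z : Subgroup G} {X : ι → Subgroup G} {S : Set ι} {b : ι} (hb : b ∈ S) : X b ≤ QS Z X S :=
  (le_iSup₂_of_le b hb le_rfl : X b ≤ ⨆ b ∈ S, X b).trans le_sup_right

theorem QS_le {Z : Subgroup G} {X : ι → Subgroup G} {S : Set ι} {H : Subgroup G} (hZ : Z ≤ H)
    (hX : ∀ b ∈ S, X b ≤ H) : QS Z X S ≤ H := sup_le hZ (iSup₂_le hX)

theorem QS_mono {Z : Subgroup G} {X : ι → Subgroup G} {S S' : Set ι} (h : S ⊆ S') : QS Z X S ≤ QS Z X S' :=
  QS_le Z_le_QS fun _ hb => X_le_QS (h hb)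

/-- The other groups. -/
def OO (Z : Subgroup G) (X : ι → Subgroup G) (b : ι) : Subgroup G := QS Z X {b' | b' ≠ b}

/-- `Q / Z` is the direct product of the `X b Z / Z`. -/
structure Gr (Z Q : Subgroup G) (X : ι → Subgroup G) : Prop where
  Z_le : Z ≤ Q
  X_le : ∀ b, X b ≤ Q
  gen : Q ≤ QS Z X Set.univ
  comm : ∀ x ∈ Q, ∀ y ∈ Q, ⁅x, y⁆ ∈ Z
  Zc : ∀ z ∈ Z, ∀ x ∈ Q, z * x = x * z
  ind : ∀ b, ∀ x ∈ X b, x ∈ OO Z X b → x = 1

namespace Gr

variable {Z Q : Subgroup G} {X : ι → Subgroup G} (F : Gr Z Q X)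

include F

theorem QS_le_Q (S : Set ι) : QS Z X S ≤ Q := QS_le F.Z_le fun b _ => F.X_le b

theorem eq_QS : Q = QS Z X Set.univ := le_antisymm F.gen (F.QS_le_Q _)

/-- elements of `Q` commute modulo `Z` -/
theorem swap {x y : G} (hx : x ∈ Q) (hy : y ∈ Q) : ∃ z ∈ Z, x * y = y * x * z := by
  refine ⟨(y * x)⁻¹ * (x * y), ?_, by group⟩
  have h1 := F.comm x⁻¹ (Q.inv_mem hx) y⁻¹ (Q.inv_mem hy)
  have h2 : (y * x)⁻¹ * (x * y) = ⁅x⁻¹, y⁻¹⁆ := by rw [commutatorElement_def]; group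
  rw [h2]; exact h1

/-- A subgroup of `Q` containing `Z` is normalised by `Q`. -/
theorem conj_mem {H : Subgroup G} (hZ : Z ≤ H) (hH : H ≤ Q) {x g : G} (hx : x ∈ H) (hg : g ∈ Q) :
    g * x * g⁻¹ ∈ H := by
  have h1 := hZ (F.comm g hg x (hH hx))
  rw [commutatorElement_def] at h1
  have : g * x * g⁻¹ = g * x * g⁻¹ * x⁻¹ * x := by group
  rw [this]
  exact H.mul_mem h1 hx

/-- decomposition -/
theorem dec {S : Set ι} {b : ι} (hb : b ∈ S) {v : G} (hv : v ∈ QS Z X S) :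
    ∃ x ∈ X b, ∃ w ∈ QS Z X (S \ {b}), v = x * w := by
  have hle : QS Z X (S \ {b}) ≤ Q := F.QS_le_Q _
  let K : Subgroup G :=
    { carrier := {v | ∃ x ∈ X b, ∃ w ∈ QS Z X (S \ {b}), v = x * w}
      one_mem' := ⟨1, one_mem _, 1, one_mem _, by group⟩
      mul_mem' := by
        rintro _ _ ⟨x, hx, w, hw, rfl⟩ ⟨x', hx', w', hw', rfl⟩
        refine ⟨x * x', mul_mem hx hx', x'⁻¹ * w * x' * w', mul_mem ?_ hw', by group⟩
        have := F.conj_mem Z_le_QS hle hw (Q.inv_mem (F.X_le b hx'))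
        rwa [inv_inv] at this
      inv_mem' := by
        rintro _ ⟨x, hx, w, hw, rfl⟩
        refine ⟨x⁻¹, inv_mem hx, x * w⁻¹ * x⁻¹, ?_, by group⟩
        exact F.conj_mem Z_le_QS hle (inv_mem hw) (F.X_le b hx) }
  have : QS Z X S ≤ K := by
    apply QS_le
    · intro z hz
      exact ⟨1, one_mem _, z, Z_le_QS hz, by group⟩
    · intro b' hb' x hx
      by_cases h : b' = b
      · subst h
        exact ⟨x, hx, 1, one_mem _, by group⟩
      · exact ⟨1, one_mem _, x, X_le_QS (show b' ∈ S \ {b} from ⟨hb', h⟩) hx, by group⟩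
  exact this hv

theorem dec' (b : ι) {v : G} (hv : v ∈ Q) : ∃ x ∈ X b, ∃ w ∈ OO Z X b, v = x * w := by
  obtain ⟨x, hx, w, hw, e⟩ := F.dec (Set.mem_univ b) (F.gen hv)
  exact ⟨x, hx, w, QS_mono (fun c hc => hc.2) hw, e⟩

theorem drop {S : Set ι} {b : ι} {v : G} (hv : v ∈ QS Z X S) (h : v ∈ OO Z X b) : v ∈ QS Z X (S \ {b}) := by
  by_cases hb : b ∈ S
  · obtain ⟨x, hx, w, hw, rfl⟩ := F.dec hb hv
    have h1 : w ∈ OO Z X b := QS_mono (fun c hc => hc.2) hw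
    have h2 : x ∈ OO Z X b := by
      have : x = x * w * w⁻¹ := by group
      rw [this]; exact mul_mem h (inv_mem h1)
    rw [F.ind b x hx h2, one_mul]
    exact hw
  · rwa [Set.diff_singleton_eq_self hb]

theorem drop_all [Finite ι] {S : Set ι} {v : G} (hv : v ∈ Q) (h : ∀ b ∈ S, v ∈ OO Z X b) : v ∈ QS Z X Sᶜ := by
  have key : ∀ S : Set ι, S.Finite → (∀ b ∈ S, v ∈ OO Z X b) → v ∈ QS Z X Sᶜ := by
    intro S hS
    induction S, hS using Set.Finite.induction_on with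
    | empty =>
      intro _
      rw [Set.compl_empty]; exact F.gen hv
    | @insert a S _ _ ih =>
      intro h'
      have h1 := ih fun b hb => h' b (Set.mem_insert_of_mem _ hb)
      have h2 := F.drop h1 (h' a (Set.mem_insert _ _))
      refine QS_mono ?_ h2
      intro c hc
      rw [Set.mem_compl_iff, Set.mem_insert_iff, not_or]
      exact ⟨hc.2, hc.1⟩
  exact key S (Set.toFinite S) h

omit F in
/-- The support. -/
def supp (Z : Subgroup G) (X : ι → Subgroup G) (v : G) : Set ι := {b | v ∉ OO Z X b}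

theorem mem_Z_of_supp [Finite ι] {v : G} (hv : v ∈ Q) (h : supp Z X v = ∅) : v ∈ Z := by
  have h1 := F.drop_all (S := Set.univ) hv fun b _ => by
    by_contra hb
    have : b ∈ supp Z X v := hb
    rw [h] at this
    exact this
  rw [Set.compl_univ] at h1
  have h2 : QS Z X (∅ : Set ι) ≤ Z := QS_le le_rfl (by simp)
  exact h2 h1

theorem supp_of_mem_Z {v : G} (h : v ∈ Z) : supp Z X v = ∅ := by
  ext b
  simp only [supp, Set.mem_setOf_eq, Set.mem_empty_iff_false, iff_false, not_not]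
  exact Z_le_QS h

theorem single_of_supp [Finite ι] {v : G} (hv : v ∈ Q) {b : ι} (h : supp Z X v ⊆ {b}) :
    ∃ x ∈ X b, ∃ z ∈ Z, v = x * z := by
  have h1 := F.drop_all (S := {b}ᶜ) hv fun c hc => by
    by_contra hb
    exact hc (h hb)
  rw [compl_compl] at h1
  obtain ⟨x, hx, w, hw, e⟩ := F.dec (Set.mem_singleton b) h1
  refine ⟨x, hx, w, ?_, e⟩
  have h2 : QS Z X (({b} : Set ι) \ {b}) ≤ Z := QS_le le_rfl (by simp)
  exact h2 hw

end Gr

/-- `δ_g(v)` -/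
def dl (g v : G) : G := v⁻¹ * (g * v * g⁻¹)

/-- An operator: `x ↦ x y z`, `y ∈ X (c b)`. -/
structure Op (Z Q : Subgroup G) (X : ι → Subgroup G) (g : G) (c : ι → Option ι) : Prop where
  inj : ∀ b b' d, c b = some d → c b' = some d → b = b'
  Qg : ∀ x ∈ Q, g * x * g⁻¹ ∈ Q
  Zg : ∀ z ∈ Z, g * z * g⁻¹ ∈ Z
  som : ∀ b d, c b = some d → ∀ x ∈ X b, ∃ y ∈ X d, ∃ z ∈ Z, dl g x = y * z ∧ (x ≠ 1 → y ≠ 1)
  non : ∀ b, c b = none → ∀ x ∈ X b, dl g x ∈ Z

namespace Op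

variable {Z Q : Subgroup G} {X : ι → Subgroup G} {g : G} {c : ι → Option ι} (F : Gr Z Q X) (O : Op Z Q X g c)

include F O

theorem dl_mem {v : G} (hv : v ∈ Q) : dl g v ∈ Q := mul_mem (inv_mem hv) (O.Qg v hv)

/-- `δ` is a homomorphism modulo `Z`. -/
theorem dl_mul {H : Subgroup G} (hZ : Z ≤ H) (hH : H ≤ Q) {v w : G} (hv : v ∈ Q) (hw : w ∈ Q) (h1 : dl g v ∈ H)
    (h2 : dl g w ∈ H) : dl g (v * w) ∈ H := by
  have e : dl g (v * w) = (w⁻¹ * dl g v * w) * dl g w := by unfold dl; group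
  rw [e]
  have := F.conj_mem hZ hH h1 (Q.inv_mem hw)
  rw [inv_inv] at this
  exact mul_mem this h2

theorem dl_inv {H : Subgroup G} (hZ : Z ≤ H) (hH : H ≤ Q) {v : G} (hv : v ∈ Q) (h1 : dl g v ∈ H) :
    dl g v⁻¹ ∈ H := by
  have e : dl g v⁻¹ = v * (dl g v)⁻¹ * v⁻¹ := by unfold dl; group
  rw [e]
  exact F.conj_mem hZ hH (inv_mem h1) hv

/-- The elements of `Q` with `δ v ∈ H`. -/
theorem dl_mem_of {H : Subgroup G} (hZ : Z ≤ H) (hH : H ≤ Q) {S : Set ι} (hS : ∀ b ∈ S, ∀ x ∈ X b, dl g x ∈ H)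
    {v : G} (hv : v ∈ QS Z X S) : dl g v ∈ H := by
  let K : Subgroup G :=
    { carrier := {v | v ∈ Q ∧ dl g v ∈ H}
      one_mem' := ⟨one_mem _, by unfold dl; simp⟩
      mul_mem' := fun ha hb => ⟨mul_mem ha.1 hb.1, dl_mul F O hZ hH ha.1 hb.1 ha.2 hb.2⟩
      inv_mem' := fun ha => ⟨inv_mem ha.1, dl_inv F O hZ hH ha.1 ha.2⟩ }
  have : QS Z X S ≤ K := by
    apply QS_le
    · intro z hz
      exact ⟨F.Z_le hz, hZ (mul_mem (inv_mem hz) (O.Zg z hz))⟩
    · intro b hb x hx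
      exact ⟨F.X_le b hx, hS b hb x hx⟩
  exact (this hv).2

theorem dl_X {b d : ι} (hb : c b ≠ Option.some d) {x : G} (hx : x ∈ X b) : dl g x ∈ OO Z X d := by
  rcases hcb : c b with _ | e
  · exact Z_le_QS (O.non b hcb x hx)
  · obtain ⟨y, hy, z, hz, he, -⟩ := O.som b e hcb x hx
    rw [he]
    refine mul_mem (X_le_QS (b := e) ?_ hy) (Z_le_QS hz)
    rintro rfl
    exact hb hcb

/-- `δ` on the complement of `b`. -/
theorem dl_OO {b d : ι} (hb : c b = Option.some d) {v : G} (hv : v ∈ OO Z X b) : dl g v ∈ OO Z X d := by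
  refine dl_mem_of F O Z_le_QS (F.QS_le_Q _) (fun b' hb' x hx => ?_) hv
  exact dl_X F O (fun h => hb' (O.inj _ _ _ h hb)) hx

theorem supp_dl {v : G} (hv : v ∈ Q) (d : ι) :
    d ∈ Gr.supp Z X (dl g v) ↔ ∃ b ∈ Gr.supp Z X v, c b = Option.some d := by
  constructor
  · intro hd
    by_contra hcon
    push Not at hcon
    apply hd
    by_cases hb : ∃ b, c b = Option.some d
    · obtain ⟨b, hb⟩ := hb
      have h1 : v ∈ OO Z X b := by
        by_contra h2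
        exact hcon b h2 hb
      exact dl_OO F O hb h1
    · push Not at hb
      refine dl_mem_of F O Z_le_QS (F.QS_le_Q _) (S := Set.univ) (fun b' _ x hx => ?_) (F.gen hv)
      exact dl_X F O (hb b') hx
  · rintro ⟨b, hb, hcb⟩ hd
    obtain ⟨x, hx, w, hw, rfl⟩ := F.dec' b hv
    have hx1 : x ≠ 1 := by
      rintro rfl
      apply hb
      rw [one_mul]; exact hw
    obtain ⟨y, hy, z, hz, he, hy1⟩ := O.som b d hcb x hx
    have hwQ : w ∈ Q := F.QS_le_Q _ hw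
    have h1 : dl g (x * w) = (w⁻¹ * dl g x * w) * dl g w := by unfold dl; group
    have h2 : dl g w ∈ OO Z X d := dl_OO F O hcb hw
    have h3 : w⁻¹ * dl g x * w ∈ OO Z X d := by
      have : w⁻¹ * dl g x * w = dl g (x * w) * (dl g w)⁻¹ := by rw [h1]; group
      rw [this]; exact mul_mem hd (inv_mem h2)
    have h4 : dl g x ∈ OO Z X d := by
      have h5 := F.conj_mem Z_le_QS (F.QS_le_Q _) h3 hwQ
      have : w * (w⁻¹ * dl g x * w) * w⁻¹ = dl g x := by group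
      rwa [this] at h5
    rw [he] at h4
    have h5 : y ∈ OO Z X d := by
      have : y = y * z * z⁻¹ := by group
      rw [this]; exact mul_mem h4 (inv_mem (Z_le_QS hz))
    exact hy1 hx1 (F.ind d y hy h5)

end Op

variable {Z Q : Subgroup G} {X : ι → Subgroup G}

/-- **Every invariant subgroup not contained in `Z` contains an element with one component.** -/
theorem exists_single [Finite ι] (F : Gr Z Q X) {H : Subgroup G}
    (sep : ∀ b b' : ι, b ≠ b' → ∃ g ∈ H, ∃ c, Op Z Q X g c ∧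
      ((c b ≠ none ∧ c b' = none) ∨ (c b = none ∧ c b' ≠ none)))
    {N : Subgroup G} (hNQ : N ≤ Q) (hN : ∀ g ∈ H, ∀ x ∈ N, g * x * g⁻¹ ∈ N) (hNZ : ¬ N ≤ Z) :
    ∃ b, ∃ x ∈ X b, x ≠ 1 ∧ ∃ z ∈ Z, x * z ∈ N := by
  obtain ⟨v, hv, hvZ⟩ := Set.not_subset.1 hNZ
  have key : ∀ n : ℕ, ∀ v ∈ N, v ∉ Z → (Gr.supp Z X v).ncard = n →
      ∃ b, ∃ x ∈ X b, x ≠ 1 ∧ ∃ z ∈ Z, x * z ∈ N := by
    intro n
    induction n using Nat.strong_induction_on with
    | _ n ih =>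
    intro v hv hvZ hn
    have hvQ := hNQ hv
    have hne : (Gr.supp Z X v).Nonempty := by
      rw [Set.nonempty_iff_ne_empty]
      exact fun h => hvZ (F.mem_Z_of_supp hvQ h)
    obtain ⟨b, hb⟩ := hne
    by_cases hs : Gr.supp Z X v ⊆ {b}
    · obtain ⟨x, hx, z, hz, e⟩ := F.single_of_supp hvQ hs
      refine ⟨b, x, hx, ?_, z, hz, by rw [← e]; exact hv⟩
      rintro rfl
      apply hvZ
      rw [e, one_mul]; exact hz
    · obtain ⟨b', hb', hbb'⟩ := Set.not_subset.1 hs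
      have hbb : b ≠ b' := fun h => hbb' h.symm
      obtain ⟨g, hg, c, O, hc⟩ := sep b b' hbb
      have hsub := Op.supp_dl F O hvQ
      -- the support of `δ v` is smaller and not empty
      have hdN : dl g v ∈ N := mul_mem (inv_mem hv) (hN g hg v hv)
      obtain ⟨b1, hb1, hc1, b2, hb2, hc2⟩ : ∃ b1 ∈ Gr.supp Z X v, c b1 ≠ none ∧
          ∃ b2 ∈ Gr.supp Z X v, c b2 = none := by
        rcases hc with ⟨h1, h2⟩ | ⟨h1, h2⟩
        · exact ⟨b, hb, h1, b', hb', h2⟩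
        · exact ⟨b', hb', h2, b, hb, h1⟩
      obtain ⟨d1, hd1⟩ := Option.ne_none_iff_exists'.1 hc1
      have hcard : (Gr.supp Z X (dl g v)).ncard < (Gr.supp Z X v).ncard := by
        classical
        let f : ι → ι := fun b => (c b).getD b
        have h1 : Gr.supp Z X (dl g v) ⊆ f '' (Gr.supp Z X v \ {b2}) := by
          intro d hd
          obtain ⟨b3, hb3, hc3⟩ := (hsub d).1 hd
          refine ⟨b3, ⟨hb3, ?_⟩, ?_⟩
          · rintro rfl
            rw [hc2] at hc3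
            exact absurd hc3 (by simp)
          · show (c b3).getD b3 = d
            rw [hc3]; rfl
        calc (Gr.supp Z X (dl g v)).ncard ≤ (f '' (Gr.supp Z X v \ {b2})).ncard :=
              Set.ncard_le_ncard h1 (Set.toFinite _)
          _ ≤ (Gr.supp Z X v \ {b2}).ncard := Set.ncard_image_le (Set.toFinite _)
          _ < (Gr.supp Z X v).ncard := Set.ncard_sdiff_singleton_lt_of_mem hb2 (Set.toFinite _)
      refine ih _ (hn ▸ hcard) _ hdN ?_ rfl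
      intro hZ
      have h1 : d1 ∈ Gr.supp Z X (dl g v) := (hsub d1).2 ⟨b1, hb1, hd1⟩
      rw [F.supp_of_mem_Z hZ] at h1
      exact h1
  exact key _ v hv hvZ rfl

/-- **An invariant subgroup covering `Q / Z` is `Q`.** -/
theorem eq_of_le (F : Gr Z Q X) (hZ : Z ≤ ⁅Q, Q⁆) {N : Subgroup G} (hNQ : N ≤ Q)
    (h : ∀ b, ∀ x ∈ X b, ∃ z ∈ Z, x * z ∈ N) : N = Q := by
  have h1 : ∀ v ∈ Q, ∃ z ∈ Z, v * z ∈ N := by
    let K : Subgroup G :=
      { carrier := {v | v ∈ Q ∧ ∃ z ∈ Z, v * z ∈ N}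
        one_mem' := ⟨one_mem _, 1, one_mem _, by simp⟩
        mul_mem' := by
          rintro a b ⟨ha, z, hz, h1⟩ ⟨hb, z', hz', h2⟩
          refine ⟨mul_mem ha hb, z * z', mul_mem hz hz', ?_⟩
          have : a * b * (z * z') = a * z * (b * z') := by
            calc a * b * (z * z') = a * (b * z) * z' := by group
              _ = a * (z * b) * z' := by rw [F.Zc z hz b hb]
              _ = _ := by group
          rw [this]; exact mul_mem h1 h2
        inv_mem' := by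
          rintro a ⟨ha, z, hz, h1⟩
          refine ⟨inv_mem ha, z⁻¹, inv_mem hz, ?_⟩
          have : a⁻¹ * z⁻¹ = (a * z)⁻¹ := by rw [← F.Zc z hz a ha, mul_inv_rev]
          rw [this]; exact inv_mem h1 }
    intro v hv
    have : QS Z X Set.univ ≤ K := by
      apply QS_le
      · intro z hz
        exact ⟨F.Z_le hz, z⁻¹, inv_mem hz, by rw [mul_inv_cancel]; exact one_mem _⟩
      · intro b _ x hx
        exact ⟨F.X_le b hx, h b x hx⟩
    exact (this (F.gen hv)).2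
  have h2 : ⁅Q, Q⁆ ≤ N := by
    rw [Subgroup.commutator_le]
    intro x hx y hy
    obtain ⟨z, hz, hxz⟩ := h1 x hx
    obtain ⟨w, hw, hyw⟩ := h1 y hy
    have e1 : x * z * (y * w) * (x * z)⁻¹ * (y * w)⁻¹ = x * y * x⁻¹ * y⁻¹ := by
      have c1 := F.Zc z hz
      have c2 := F.Zc w hw
      calc x * z * (y * w) * (x * z)⁻¹ * (y * w)⁻¹ = x * (z * (y * w)) * z⁻¹ * x⁻¹ * (w⁻¹ * y⁻¹) := by group
        _ = x * ((y * w) * z) * z⁻¹ * x⁻¹ * (w⁻¹ * y⁻¹) := by rw [c1 _ (mul_mem hy (F.Z_le hw))]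
        _ = x * y * (w * x⁻¹) * (w⁻¹ * y⁻¹) := by group
        _ = x * y * (x⁻¹ * w) * (w⁻¹ * y⁻¹) := by rw [c2 _ (inv_mem hx)]
        _ = x * y * x⁻¹ * y⁻¹ := by group
    rw [commutatorElement_def, ← e1]
    exact mul_mem (mul_mem (mul_mem hxz hyw) (inv_mem hxz)) (inv_mem hyw)
  apply le_antisymm hNQ
  intro v hv
  obtain ⟨z, hz, hvz⟩ := h1 v hv
  have : v = v * z * z⁻¹ := by group
  rw [this]
  exact mul_mem hvz (inv_mem (h2 (hZ hz)))

end Cfsg.Agent.KFacts.GrIrr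

end

-- merged: Cfsg.Agent.KFacts.TwESix.Pair
section

/-!
# Pairs of root groups in `²E₆(q)`, from the root group datum (ODD D7, packet [D])

* `LRl R` : `LR R a` for all long roots `a`; `Tr R` : the pairing `X b × X d → X (b + d)` of short orthogonal root groups
  is nondegenerate;
* `comm_135` : for `s` long, `d` short, at 135 degrees, `x ∈ X s`: `⁅x, v⁆ = (m v m⁻¹) z`, `z ∈ X (s + 2d)`, for all
  `v ∈ X d`, where `m = μ(x)` represents the reflection in `s`;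
* `comm_sum` : `X b`, `X d` commute modulo `X (b + d)` if `b`, `d` are short and orthogonal.
-/

set_option autoImplicit false
set_option linter.unusedSectionVars false

namespace Cfsg.Agent.KFacts.TwESix.Pair

open CoxeterSystem Cfsg.Agent.ChevalleyStructure.CoxeterGeom Cfsg.Agent.Tits.Roots Cfsg.Agent.Tits.Core
  Cfsg.Agent.Tits.RootComb Cfsg.Agent.Nodes.Reps Cfsg.Agent.Nodes.BNOf Cfsg.Agent.Nodes.Coroot
  Cfsg.Agent.Nodes.Bruhat Cfsg.Agent.Nodes.OppDec Cfsg.Agent.Nodes.StabComb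
  Cfsg.Agent.KFacts.RgdSL Cfsg.Agent.KFacts.RgdTI Cfsg.Agent.KFacts.RgdEx Cfsg.Agent.KFacts.RgdOdd
  Cfsg.Agent.Nodes.RGDTwE6 Cfsg.Agent.KFacts.TwESix.Comb Cfsg.Agent.KFacts.TwESix.Btw
open scoped commutatorElement

variable {W Y : Type*} [Group W] [Group Y] {cs : CoxeterSystem CoxeterMatrix.F₄ W} {p : ℕ} {T : Subgroup Y}
  {n : Fin 4 → Y} {X : (Fin 4 → ℤ) → Subgroup Y}

/-- `LR` for all long roots. -/
def LRl (R : RGD cs isCartan p T n X) : Prop := ∀ a, IsRoot cs isCartan a → bf a a = 4 → LR R a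

/-- The pairing of short orthogonal root groups is nondegenerate. -/
def Tr (_R : RGD cs isCartan p T n X) : Prop :=
  ∀ b d, IsRoot cs isCartan b → IsRoot cs isCartan d → bf b b = 2 → bf d d = 2 → bf b d = 0 →
    IsRoot cs isCartan (b + d) → ∀ x ∈ X b, x ≠ 1 → ∃ v ∈ X d, ⁅x, v⁆ ≠ 1

/-- elements of an interval with at most two roots -/
theorem mem_two {x y a b : Fin 4 → ℤ} (hz : ∀ z, Btwn cs isCartan x y z → z = a ∨ z = b)
    (hc : ∀ u ∈ X a, ∀ v ∈ X b, u * v = v * u) {g : Y} (hg : g ∈ Nodes.Reps.btw cs isCartan X x y) :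
    ∃ u ∈ X a, ∃ v ∈ X b, g = u * v := by
  have h1 : Nodes.Reps.btw cs isCartan X x y ≤ X a ⊔ X b := by
    unfold Nodes.Reps.btw
    refine iSup_le ?_
    rintro ⟨z, hz'⟩
    rcases hz z hz' with rfl | rfl
    · exact le_sup_left
    · exact le_sup_right
  have h2 : X b ≤ Subgroup.normalizer (X a : Set Y) := by
    intro v hv
    rw [Subgroup.mem_normalizer_iff]
    intro u
    constructor
    · intro hu
      rw [← hc u hu v hv, mul_assoc, mul_inv_cancel, mul_one]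
      exact hu
    · intro hu
      have h3 := hc _ hu v hv
      have h4 : v * u = v * u * v⁻¹ * v := by group
      have h5 : u = v * u * v⁻¹ := by
        apply mul_left_cancel (a := v)
        rw [← h3]; group
      rw [h5]; exact hu
  have h3 : g ∈ ((X a ⊔ X b : Subgroup Y) : Set Y) := h1 hg
  rw [Subgroup.coe_mul_of_right_le_normalizer_left _ _ h2, Set.mem_mul] at h3
  obtain ⟨u, hu, v, hv, e⟩ := h3
  exact ⟨u, hu, v, hv, e.symm⟩

section

variable (R : RGD cs isCartan p T n X) (hL : LRl R)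

include R hL

theorem comm_long {x a : Fin 4 → ℤ} (hx : IsRoot cs isCartan x) (ha : IsRoot cs isCartan a) (hl : bf a a = 4)
    (hxa : 0 ≤ bf x a) {u v : Y} (hu : u ∈ X x) (hv : v ∈ X a) : u * v = v * u :=
  (hL a ha hl).comm x hx ((ge_iff cs ha hl).2 hxa) u hu v hv

theorem ne_of_norm {x y : Fin 4 → ℤ} (h : bf x x ≠ bf y y) : x ≠ y ∧ x ≠ -y := by
  constructor
  · rintro rfl; exact h rfl
  · rintro rfl
    apply h
    rw [bf_neg_left, bf_neg_right, neg_neg]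

/-- **The commutators of `X s` and `X d`, `s` long, `d` short, at 135 degrees.** -/
theorem comm_135 {s d : Fin 4 → ℤ} (hs : IsRoot cs isCartan s) (hd : IsRoot cs isCartan d) (hsl : bf s s = 4)
    (hds : bf d d = 2) (hsd : bf s d = -2) {x : Y} (hx : x ∈ X s) (hx1 : x ≠ 1) :
    ∃ m : Y, (∃ w : W, Rp cs R.nsys w m ∧ ∀ y, rep cs isCartan w y = y - cpr cs isCartan y s • s) ∧
      (∀ v ∈ X d, m * v * m⁻¹ ∈ X (s + d)) ∧
      ∀ v ∈ X d, ∃ z ∈ X (s + d + d), ⁅x, v⁆ = (m * v * m⁻¹) * z := by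
  have : Finite W := finiteW cs
  have hs' := (mem_rts cs).1 hs
  have hd' := (mem_rts cs).1 hd
  obtain ⟨hr1, hr2⟩ := sd_roots s hs' hsl d hd' hds hsd
  have hR1 := (mem_rts cs).2 hr1
  have hR2 := (mem_rts cs).2 hr2
  have hd1 : bf d s = -2 := by rw [bf_comm]; exact hsd
  -- norms
  have n1 : bf (s + d) (s + d) = 2 := by
    rw [bf_add_left, bf_add_right, bf_add_right, hsl, hds, hsd, hd1]; norm_num
  have n2 : bf (s + d + d) (s + d + d) = 4 := by
    simp only [bf_add_left, bf_add_right, hsl, hds, hsd, hd1]; norm_num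
  have n3 : bf (s + d) (s + d + d) = 2 := by
    simp only [bf_add_left, bf_add_right, hsl, hds, hsd, hd1]; norm_num
  have n4 : bf d (s + d + d) = 2 := by
    simp only [bf_add_right, hds, hd1]; norm_num
  have n5 : bf (-s) (s + d + d) = 0 := by
    simp only [bf_neg_left, bf_add_right, hsl, hsd]; norm_num
  have n6 : bf d (-s) = 2 := by rw [bf_neg_right, hd1]; norm_num
  have nl : bf (-s) (-s) = 4 := by rw [bf_neg_left, bf_neg_right, neg_neg, hsl]
  obtain ⟨w, hw, a, ha, b, hb, m, hm, he⟩ := exists_mu R hs hx hx1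
  have hwd : rep cs isCartan w d = s + d := by
    rw [hw]
    have := cpr_long cs d hs hsl
    have h1 : cpr cs isCartan d s = -1 := by omega
    rw [h1, neg_one_smul, sub_neg_eq_add, add_comm]
  have hmv : ∀ v ∈ X d, m * v * m⁻¹ ∈ X (s + d) := by
    intro v hv
    have := R.conj_mem hm hd hv
    rwa [hwd] at this
  refine ⟨m, ⟨w, hm, hw⟩, hmv, fun v hv => ?_⟩
  -- commutations
  have cz : ∀ {u z : Y}, u ∈ X (s + d) → z ∈ X (s + d + d) → u * z = z * u := fun hu hz =>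
    comm_long R hL hR1 hR2 n2 (by rw [n3]; norm_num) hu hz
  have cdz : ∀ {u z : Y}, u ∈ X d → z ∈ X (s + d + d) → u * z = z * u := fun hu hz =>
    comm_long R hL hd hR2 n2 (by rw [n4]; norm_num) hu hz
  have caz : ∀ {u z : Y}, u ∈ X (-s) → z ∈ X (s + d + d) → u * z = z * u := fun hu hz =>
    comm_long R hL hs.neg hR2 n2 (by rw [n5]) hu hz
  have cda : ∀ {u z : Y}, u ∈ X d → z ∈ X (-s) → u * z = z * u := fun hu hz =>
    comm_long R hL hd hs.neg nl (by rw [n6]; norm_num) hu hz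
  -- the commutator `⁅x, v⁆ = w z`
  obtain ⟨hne1, hne1'⟩ := ne_of_norm R hL (x := s) (y := d) (by rw [hsl, hds]; norm_num)
  obtain ⟨q, hq, z, hz, hqz⟩ := mem_two (X := X) (fun z hz => by
    obtain ⟨h1, h2⟩ := btwn_spec cs hs hd hne1 hne1' hz
    exact sd1 s hs' hsl d hd' hds hsd z h1 h2) (fun u hu v hv => cz hu hv)
    (R.comm s d hs hd hne1 hne1' x hx v hv)
  -- `⁅a, w⁆ = v' z'`
  obtain ⟨hne2, hne2'⟩ := ne_of_norm R hL (x := -s) (y := s + d) (by rw [nl, n1]; norm_num)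
  obtain ⟨v', hv', z', hz', hvz'⟩ := mem_two (X := X) (fun z hz => by
    obtain ⟨h1, h2⟩ := btwn_spec cs hs.neg hR1 hne2 hne2' hz
    exact sd2 s hs' hsl d hd' hds hsd z h1 h2) (fun u hu v hv => cdz hu hv)
    (R.comm (-s) (s + d) hs.neg hR1 hne2 hne2' a ha q hq)
  -- `⁅w, v⁆ = z''`
  have hne3 : s + d ≠ d ∧ s + d ≠ -d := by
    constructor
    · intro h
      exact hs.ne_zero (by simpa using h)
    · intro h
      have : bf (s + d) d = bf (-d) d := by rw [h]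
      rw [bf_add_left, bf_neg_left, hds, hsd] at this
      norm_num at this
  have hz3 : ⁅q, v⁆ ∈ X (s + d + d) := btw_le_of (X := X) (fun z hz => by
    obtain ⟨h1, h2⟩ := btwn_spec cs hR1 hd hne3.1 hne3.2 hz
    exact sd3 s hs' hsl d hd' hds hsd z h1 h2) (R.comm (s + d) d hR1 hd hne3.1 hne3.2 q hq v hv)
  -- `m v m⁻¹ = v' z' w z v`
  have e1 : m * v * m⁻¹ = v' * z' * q * z * v := by
    have h1 : b * v * b⁻¹ = v := by rw [← cda hv hb]; group
    have h2 : a * v * a⁻¹ = v := by rw [← cda hv ha]; group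
    have h3 : a * z * a⁻¹ = z := by rw [caz ha hz]; group
    calc m * v * m⁻¹ = a * x * (b * v * b⁻¹) * x⁻¹ * a⁻¹ := by rw [he]; group
      _ = a * (⁅x, v⁆ * v) * a⁻¹ := by rw [h1, commutatorElement_def]; group
      _ = (a * q * a⁻¹) * (a * z * a⁻¹) * (a * v * a⁻¹) := by rw [hqz]; group
      _ = (⁅a, q⁆ * q) * z * v := by rw [h2, h3, commutatorElement_def]; group
      _ = _ := by rw [hvz']
  -- reorder
  have hz4 : z' * ⁅q, v⁆ * z ∈ X (s + d + d) := mul_mem (mul_mem hz' hz3) hz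
  have e2 : m * v * m⁻¹ = (v' * v) * (q * (z' * ⁅q, v⁆ * z)) := by
    have h1 : z * v = v * z := (cdz hv hz).symm
    have h2 : z' * q = q * z' := (cz hq hz').symm
    have h3 : q * v = ⁅q, v⁆ * (v * q) := by rw [commutatorElement_def]; group
    have h4 : ⁅q, v⁆ * (v * q) = (v * q) * ⁅q, v⁆ := by
      have h5 := cdz hv hz3
      have h6 := cz hq hz3
      calc ⁅q, v⁆ * (v * q) = (⁅q, v⁆ * v) * q := by group
        _ = v * (⁅q, v⁆ * q) := by rw [← h5]; group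
        _ = _ := by rw [← h6]; group
    have h7 : z' * (v * q) = (v * q) * z' := by
      calc z' * (v * q) = (z' * v) * q := by group
        _ = v * (z' * q) := by rw [← cdz hv hz']; group
        _ = _ := by rw [h2]; group
    calc m * v * m⁻¹ = v' * z' * q * (z * v) := by rw [e1]; group
      _ = v' * z' * (q * v) * z := by rw [h1]; group
      _ = v' * (z' * (v * q)) * ⁅q, v⁆ * z := by rw [h3, h4]; group
      _ = _ := by rw [h7]; group
  have e3 : v' * v ∈ X d ⊓ RGD.Sup X {s + d, s + d + d} := by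
    refine Subgroup.mem_inf.2 ⟨mul_mem hv' hv, ?_⟩
    have : v' * v = m * v * m⁻¹ * (q * (z' * ⁅q, v⁆ * z))⁻¹ := by rw [e2]; group
    rw [this]
    exact mul_mem (RGD.le_Sup (by simp) (hmv v hv))
      (inv_mem (mul_mem (RGD.le_Sup (by simp) hq) (RGD.le_Sup (by simp) hz4)))
  have e4 : X d ⊓ RGD.Sup X {s + d, s + d + d} = ⊥ := by
    have h1 : X d = RGD.Sup X {d} := by
      apply le_antisymm
      · exact RGD.le_Sup (by simp)
      · refine RGD.Sup_le fun z hz => ?_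
        rw [Set.mem_singleton_iff] at hz
        rw [hz]
    have c1 : cpr cs isCartan d (s + d + d) = 1 := by
      have := cpr_long cs d hR2 n2
      omega
    have c2 : cpr cs isCartan (s + d) (s + d + d) = 1 := by
      have := cpr_long cs (s + d) hR2 n2
      omega
    have h2 := inf_eq_half R (ell cs isCartan hR2) (S := {d}) (S' := {s + d, s + d + d}) ?_ ?_ ?_ ?_
    · rw [h1, h2]
      have h3 : ({d} : Set (Fin 4 → ℤ)) ∩ {s + d, s + d + d} = ∅ := by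
        ext y
        simp only [Set.mem_inter_iff, Set.mem_singleton_iff, Set.mem_insert_iff, Set.mem_empty_iff_false,
          iff_false, not_and, not_or]
        rintro rfl
        refine ⟨fun h => hne3.1 h.symm, fun h => ?_⟩
        have : bf y y = bf (s + y + y) (s + y + y) := by rw [← h]
        rw [n2, hds] at this
        norm_num at this
      rw [h3]
      rw [eq_bot_iff]
      exact RGD.Sup_le fun z hz => absurd hz (Set.notMem_empty z)
    · intro y hy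
      rw [Set.mem_singleton_iff] at hy
      subst hy
      refine ⟨hd, ?_⟩
      show 0 < cpr cs isCartan y (s + y + y)
      omega
    · intro y hy
      rw [Set.mem_insert_iff, Set.mem_singleton_iff] at hy
      rcases hy with rfl | rfl
      · refine ⟨hR1, ?_⟩
        show 0 < cpr cs isCartan (s + d) (s + d + d)
        omega
      · refine ⟨hR2, ?_⟩
        show 0 < cpr cs isCartan (s + d + d) (s + d + d)
        rw [cpr_self cs isCartan hR2]; norm_num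
    · intro y hy y' hy' z hz
      rw [Set.mem_singleton_iff] at hy hy'
      rw [hy, hy'] at hz
      rw [Nodes.Unique.btwn_self hd hz]
      rfl
    · have hn := ne_of_norm R hL (x := s + d) (y := s + d + d) (by rw [n1, n2]; norm_num)
      intro y hy y' hy' z hz
      rw [Set.mem_insert_iff, Set.mem_singleton_iff] at hy hy'
      rcases hy with rfl | rfl <;> rcases hy' with rfl | rfl
      · rw [Nodes.Unique.btwn_self hR1 hz]; simp
      · obtain ⟨h3, h4⟩ := btwn_spec cs hR1 hR2 hn.1 hn.2 hz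
        exact absurd h4 (sd4 s hs' hsl d hd' hds hsd z h3)
      · obtain ⟨h3, h4⟩ := btwn_spec cs hR1 hR2 hn.1 hn.2 hz.symm
        exact absurd h4 (sd4 s hs' hsl d hd' hds hsd z h3)
      · rw [Nodes.Unique.btwn_self hR2 hz]; simp
  rw [e4, Subgroup.mem_bot] at e3
  rw [e3, one_mul] at e2
  have e5 : z' * ⁅q, v⁆ * z ∈ X (s + d) ⊓ X (s + d + d) := by
    refine Subgroup.mem_inf.2 ⟨?_, hz4⟩
    have : z' * ⁅q, v⁆ * z = q⁻¹ * (m * v * m⁻¹) := by rw [e2]; group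
    rw [this]
    exact mul_mem (inv_mem hq) (hmv v hv)
  rw [X_inf_X R hR1 hR2 (by
    intro h
    exact hd.ne_zero (by simpa using h)), Subgroup.mem_bot] at e5
  rw [e5, mul_one] at e2
  exact ⟨z, hz, by rw [hqz, e2]⟩

/-- `⁅x, v⁆ ∈ X (b + d)` for `b`, `d` short and orthogonal. -/
theorem comm_sum {b d : Fin 4 → ℤ} (hb : IsRoot cs isCartan b) (hd : IsRoot cs isCartan d) (hbb : bf b b = 2)
    (hdd : bf d d = 2) (hbd : bf b d = 0) {x v : Y} (hx : x ∈ X b) (hv : v ∈ X d) : ⁅x, v⁆ ∈ X (b + d) := by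
  have : Finite W := finiteW cs
  have hne : b ≠ d := by
    rintro rfl
    omega
  have hne' : b ≠ -d := by
    rintro rfl
    rw [bf_neg_left] at hbd
    omega
  refine btw_le_of (X := X) (fun z hz => ?_) (R.comm b d hb hd hne hne' x hx v hv)
  obtain ⟨h1, h2⟩ := btwn_spec cs hb hd hne hne' hz
  exact orth_short b ((mem_rts cs).1 hb) hbb d ((mem_rts cs).1 hd) hdd hbd z h1 h2

end

end Cfsg.Agent.KFacts.TwESix.Pair

end

-- merged: Cfsg.Agent.KFacts.TwESix.Irr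
section

/-!
# `²E₆(q)`: `Q/Z` is irreducible (K-fact (H4) of ODD D7, packet [D])

`Q = ⟨X b : ⟨b, ρ^∨⟩ ≥ 1⟩`, `P = ⟨X b : ⟨b, ρ^∨⟩ ≥ 0⟩`, `Z = X ρ`.

* `gr` : `Q / Z` is the direct product of the `X b Z / Z`, `⟨b, ρ^∨⟩ = 1`;
* `op` : the operators of the long root groups orthogonal to `ρ`;
* `Z_le_comm : Z ≤ ⁅Q, Q⁆`;
* `irr` : `N ≤ Q` normalised by `P` is `≤ Z` or `= Q`.
-/

set_option autoImplicit false
set_option linter.unusedSectionVars false

namespace Cfsg.Agent.KFacts.TwESix.Irr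

open CoxeterSystem Cfsg.Agent.ChevalleyStructure.CoxeterGeom Cfsg.Agent.Tits.Roots Cfsg.Agent.Tits.Core
  Cfsg.Agent.Tits.RootComb Cfsg.Agent.Nodes.Reps Cfsg.Agent.Nodes.BNOf Cfsg.Agent.Nodes.Coroot
  Cfsg.Agent.Nodes.Bruhat Cfsg.Agent.Nodes.OppDec Cfsg.Agent.Nodes.StabComb
  Cfsg.Agent.KFacts.RgdSL Cfsg.Agent.KFacts.RgdTI Cfsg.Agent.KFacts.RgdEx Cfsg.Agent.KFacts.RgdOdd
  Cfsg.Agent.Nodes.RGDTwE6 Cfsg.Agent.KFacts.TwESix.Comb Cfsg.Agent.KFacts.TwESix.Btw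
  Cfsg.Agent.KFacts.TwESix.Pair Cfsg.Agent.KFacts.GrIrr
open scoped commutatorElement

/-! ### Combinatorics -/

/-- the roots `b` with `⟨b, ρ^∨⟩ = 1` -/
def ph1 : List (Fin 4 → ℤ) := rts.filter (fun x => x 0 = 1)

theorem mem_ph1 {x : Fin 4 → ℤ} : x ∈ ph1 ↔ x ∈ rts ∧ x 0 = 1 := by simp [ph1]

/-- the indices -/
abbrev Idx := {x : Fin 4 → ℤ // x ∈ ph1}

instance : Finite Idx := (List.finite_toSet ph1).to_subtype

/-- a functional separating the roots of `ph1` -/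
def ff : (Fin 4 → ℤ) →+ ℤ where
  toFun x := x 1 + 5 * x 2 + 25 * x 3
  map_zero' := by simp
  map_add' x y := by simp only [Pi.add_apply]; ring

theorem ff_apply (x : Fin 4 → ℤ) : ff x = x 1 + 5 * x 2 + 25 * x 3 := rfl

theorem ff_inj : ∀ x ∈ ph1, ∀ y ∈ ph1, x 1 + 5 * x 2 + 25 * x 3 = y 1 + 5 * y 2 + 25 * y 3 → x = y := by
  decide +kernel

theorem not_bt_rho : ∀ y ∈ ph1, ∀ z ∈ rts, ¬ bt rho y z := by decide +kernel

theorem btw_ph1 : ∀ x ∈ ph1, ∀ y ∈ ph1, ∀ z ∈ rts, bt x y z →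
    z = rho ∨ (bf x x = 4 ∧ bf y y = 4 ∧ 0 ≤ bf x y) := by
  decide +kernel

theorem short_sum : ∀ b ∈ rts, bf b b = 2 → ∃ x ∈ rts, bf x x = 2 ∧ b - x ∈ rts ∧ bf (b - x) (b - x) = 2 ∧
    2 * bf x (b - x) = -2 := by
  decide +kernel

/-- the long roots orthogonal to `ρ` -/
def le0 : List (Fin 4 → ℤ) := rts.filter (fun x => x 0 = 0 ∧ bf x x = 4)

theorem mem_le0 {x : Fin 4 → ℤ} : x ∈ le0 ↔ x ∈ rts ∧ x 0 = 0 ∧ bf x x = 4 := by simp [le0]

theorem sub_le0 : ∀ b ∈ ph1, ∀ e ∈ le0, bf b e = 2 → b - e ∈ ph1 := by decide +kernel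

theorem le0_cases : ∀ b ∈ ph1, ∀ e ∈ le0, bf b e = 2 ∨ bf b e ≤ 0 := by decide +kernel

theorem le0_short : ∀ b ∈ ph1, ∀ e ∈ le0, bf b b = 2 → bf b e = 2 → -e + b + b = rho := by decide +kernel

theorem sep_le0 : ∀ b ∈ ph1, ∀ b' ∈ ph1, b ≠ b' → ∃ e ∈ le0, (bf b e = 2 ∧ bf b' e ≠ 2) ∨
    (bf b e ≠ 2 ∧ bf b' e = 2) := by
  decide +kernel

/-- connectedness of the long roots of `ph1` -/
theorem conn_ph1 : ∀ b ∈ ph1, bf b b = 4 → ∀ b' ∈ ph1, bf b' b' = 4 →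
    ∃ c1 ∈ ph1, bf c1 c1 = 4 ∧ bf b c1 = 2 ∧ (c1 = b' ∨ ∃ c2 ∈ ph1, bf c2 c2 = 4 ∧ bf c1 c2 = 2 ∧ (c2 = b' ∨
      ∃ c3 ∈ ph1, bf c3 c3 = 4 ∧ bf c2 c3 = 2 ∧ c3 = b')) := by
  decide +kernel

theorem adj_le0 : ∀ b ∈ ph1, bf b b = 4 → ∀ c ∈ ph1, bf c c = 4 → bf b c = 2 → b - c ∈ le0 ∧ bf b (b - c) = 2 := by
  decide +kernel

/-- short roots of `ph1` from long ones -/
theorem short_ph1 : ∀ b ∈ ph1, bf b b = 2 → ∃ s ∈ ph1, bf s s = 4 ∧ ∃ d ∈ rts, d 0 = 0 ∧ bf d d = 2 ∧ bf s d = -2 ∧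
    s + d = b ∧ s + d + d ∈ ph1 := by
  decide +kernel

/-- a short root orthogonal to `ρ` and to `b` with a long sum -/
theorem orth_ph1 : ∀ b ∈ ph1, bf b b = 2 → ∃ d ∈ rts, d 0 = 0 ∧ bf d d = 2 ∧ bf b d = 0 ∧ b + d ∈ ph1 ∧
    bf (b + d) (b + d) = 4 := by
  decide +kernel

theorem a2_ph1 : ∀ b ∈ ph1, bf b b = 4 → rho - b ∈ ph1 ∧ bf (rho - b) (rho - b) = 4 ∧ 2 * bf b (rho - b) = -4 := by
  decide +kernel

variable {W Y : Type*} [Group W] [Group Y] {cs : CoxeterSystem CoxeterMatrix.F₄ W} {p : ℕ} {T : Subgroup Y}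
  {n : Fin 4 → Y} {X : (Fin 4 → ℤ) → Subgroup Y}

theorem root_ph1 {x : Fin 4 → ℤ} (hx : x ∈ ph1) : IsRoot cs isCartan x := (mem_rts cs).2 (mem_ph1.1 hx).1

/-- `Q` -/
def QQ (cs : CoxeterSystem CoxeterMatrix.F₄ W) (X : (Fin 4 → ℤ) → Subgroup Y) : Subgroup Y :=
  RGD.Sup X (Rad cs isCartan rho)

/-- `P` -/
def PP (cs : CoxeterSystem CoxeterMatrix.F₄ W) (X : (Fin 4 → ℤ) → Subgroup Y) : Subgroup Y :=
  RGD.Sup X (Ge cs isCartan rho)

/-- the root groups of `ph1` -/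
def XX (X : (Fin 4 → ℤ) → Subgroup Y) (b : Idx) : Subgroup Y := X b.1

theorem mem_Rad {x : Fin 4 → ℤ} : x ∈ Rad cs isCartan rho ↔ x = rho ∨ x ∈ ph1 := by
  constructor
  · rintro ⟨h1, h2⟩
    rw [cpr_rho] at h2
    have h3 := (mem_rts cs).1 h1
    rcases ge_one x h3 h2 with h | h
    · exact Or.inl h
    · exact Or.inr (mem_ph1.2 ⟨h3, h⟩)
  · rintro (rfl | h)
    · refine ⟨rho_root cs, ?_⟩
      rw [cpr_rho]; decide
    · refine ⟨root_ph1 h, ?_⟩
      rw [cpr_rho, (mem_ph1.1 h).2]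

theorem mem_Ge {x : Fin 4 → ℤ} : x ∈ Ge cs isCartan rho ↔ IsRoot cs isCartan x ∧ 0 ≤ x 0 := by
  unfold Ge
  rw [Set.mem_setOf_eq, cpr_rho]

theorem XX_le (b : Idx) : XX X b ≤ QQ cs X := RGD.le_Sup (mem_Rad.2 (Or.inr b.2))

theorem Z_le : X rho ≤ QQ cs X := RGD.le_Sup (mem_Rad.2 (Or.inl rfl))

theorem QQ_le_PP : QQ cs X ≤ PP cs X := RGD.Sup_mono fun _ hx => ⟨hx.1, zero_le_one.trans hx.2⟩

/-- the closed sets -/
def AA (cs : CoxeterSystem CoxeterMatrix.F₄ W) (c ε : ℤ) : Set (Fin 4 → ℤ) :=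
  {x | IsRoot cs isCartan x ∧ (x = rho ∨ (x ∈ ph1 ∧ c ≤ ε * ff x))}

theorem AA_pos [Finite W] {c ε : ℤ} : ∀ x ∈ AA cs c ε, IsRoot cs isCartan x ∧ 0 < ell cs isCartan (rho_root cs) x := by
  rintro x ⟨h1, h2⟩
  refine ⟨h1, ?_⟩
  show 0 < cpr cs isCartan x rho
  rw [cpr_rho]
  rcases h2 with rfl | ⟨h2, -⟩
  · decide
  · rw [(mem_ph1.1 h2).2]; norm_num

theorem btwn_zero {x y z : Fin 4 → ℤ} (hz : Btwn cs isCartan x y z) (hx : 1 ≤ x 0) (hy : 0 ≤ y 0) : 1 ≤ z 0 := by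
  obtain ⟨-, m, a, b, hm, ha, hb, he⟩ := hz
  have h1 := congrFun he 0
  simp only [Pi.add_apply, Pi.smul_apply, smul_eq_mul] at h1
  by_contra h2
  have h3 : m * z 0 ≤ 0 := mul_nonpos_of_nonneg_of_nonpos hm.le (by omega)
  have h4 : 0 < a * x 0 := mul_pos ha (by omega)
  have h5 : 0 ≤ b * y 0 := mul_nonneg hb.le hy
  omega

theorem AA_closed {c ε : ℤ} : Nodes.Unique.Closed cs isCartan (AA cs c ε) := by
  have : Finite W := finiteW cs
  rintro x ⟨hx, hx'⟩ y ⟨hy, hy'⟩ z hz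
  have x0 : 1 ≤ x 0 := by
    rcases hx' with rfl | ⟨h, -⟩
    · decide
    · exact (mem_ph1.1 h).2.ge
  have y0 : 1 ≤ y 0 := by
    rcases hy' with rfl | ⟨h, -⟩
    · decide
    · exact (mem_ph1.1 h).2.ge
  have z0 := btwn_zero hz x0 (by omega)
  have hz' := (mem_rts cs).1 hz.1
  refine ⟨hz.1, ?_⟩
  rcases ge_one z hz' z0 with h | h
  · exact Or.inl h
  right
  have hzp : z ∈ ph1 := mem_ph1.2 ⟨hz', h⟩
  refine ⟨hzp, ?_⟩
  by_cases hxy : x = y
  · subst hxy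
    have := Nodes.Unique.btwn_self hx hz
    subst this
    rcases hx' with rfl | ⟨-, h⟩
    · exact absurd h (by decide)
    · exact h
  have hxy' : x ≠ -y := by
    rintro rfl
    have : (-y) 0 = -(y 0) := rfl
    omega
  obtain ⟨h1, h2, h3, h4⟩ := btwn_spec cs hx hy hxy hxy' hz
  obtain ⟨-, h2', h3', h4'⟩ := btwn_spec cs hy hx (Ne.symm hxy) (fun h => hxy' (by rw [h, neg_neg])) hz.symm
  rcases hx' with rfl | ⟨hxp, hxf⟩
  · rcases hy' with rfl | ⟨hyp, -⟩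
    · exact absurd rfl hxy
    · exact absurd ⟨h2, h3, h4⟩ (not_bt_rho y hyp z hz')
  rcases hy' with rfl | ⟨hyp, hyf⟩
  · exact absurd ⟨h2', h3', h4'⟩ (not_bt_rho x hxp z hz')
  -- both in `ph1`
  have e0 := congrFun h4 0
  simp only [Pi.add_apply, Pi.smul_apply, smul_eq_mul, h, (mem_ph1.1 hxp).2, (mem_ph1.1 hyp).2, mul_one] at e0
  have e1 := congrArg (fun v => ε * ff v) h4
  simp only [map_add, map_zsmul, smul_eq_mul] at e1
  have e2 : dd x y * (ε * ff z) = ca x y z * (ε * ff x) + ca y x z * (ε * ff y) := by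
    linear_combination e1
  by_contra hlt
  push Not at hlt
  have hD : 0 < dd x y := by omega
  have i1 : ca x y z * c ≤ ca x y z * (ε * ff x) := mul_le_mul_of_nonneg_left hxf h2.le
  have i2 : ca y x z * c ≤ ca y x z * (ε * ff y) := mul_le_mul_of_nonneg_left hyf h3.le
  have i3 : dd x y * (ε * ff z) < dd x y * c := mul_lt_mul_of_pos_left hlt hD
  have i4 : dd x y * c = ca x y z * c + ca y x z * c := by rw [e0]; ring
  omega

section

variable (R : RGD cs isCartan p T n X) (hL : LRl R)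

include R hL

/-- the root groups are abelian -/
theorem comm_X {b : Fin 4 → ℤ} (hb : IsRoot cs isCartan b) {x y : Y} (hx : x ∈ X b) (hy : y ∈ X b) :
    x * y = y * x := by
  have : Finite W := finiteW cs
  rcases norm cs hb with h | h
  · exact comm_long R hL hb hb h (by rw [h]; norm_num) hx hy
  · obtain ⟨s, hs, h1, h2, h3, h4⟩ := short_sum b ((mem_rts cs).1 hb) h
    have hA : A2 cs isCartan s (b - s) := a2 cs ((mem_rts cs).2 hs) ((mem_rts cs).2 h2) (by rw [h1, h3]) (by omega)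
    have e : s + (b - s) = b := by abel
    exact hA.comm_self R (by rw [e]; exact hx) (by rw [e]; exact hy)

theorem comm_ph1 {b b' : Fin 4 → ℤ} (hb : b ∈ ph1) (hb' : b' ∈ ph1) {x y : Y} (hx : x ∈ X b) (hy : y ∈ X b') :
    ⁅x, y⁆ ∈ X rho := by
  have : Finite W := finiteW cs
  have hbr : IsRoot cs isCartan b := root_ph1 hb
  have hbr' : IsRoot cs isCartan b' := root_ph1 hb'
  by_cases hbb : b = b'
  · subst hbb
    rw [commutatorElement_eq_one_iff_mul_comm.2 (comm_X R hL hbr hx hy)]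
    exact one_mem _
  by_cases h1 : bf b b = 4 ∧ bf b' b' = 4 ∧ 0 ≤ bf b b'
  · rw [commutatorElement_eq_one_iff_mul_comm.2 (comm_long R hL hbr hbr' h1.2.1 h1.2.2 hx hy)]
    exact one_mem _
  have hne : b ≠ -b' := by
    rintro rfl
    have h2 := (mem_ph1.1 hb).2
    have h3 := (mem_ph1.1 hb').2
    have : (-b') 0 = -(b' 0) := rfl
    omega
  refine btw_le_of (X := X) (fun z hz => ?_) (R.comm b b' hbr hbr' hbb hne x hx y hy)
  obtain ⟨h2, h3⟩ := btwn_spec cs hbr hbr' hbb hne hz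
  exact (btw_ph1 b hb b' hb' z h2 h3).resolve_right h1

/-- `Z` is central in `P` -/
theorem Z_central {z g : Y} (hz : z ∈ X rho) (hg : g ∈ PP cs X) : z * g = g * z := by
  have : Finite W := finiteW cs
  exact ((hL rho (rho_root cs) rho_long).comm' hg hz).symm

theorem Z_comm_Q {z g : Y} (hz : z ∈ X rho) (hg : g ∈ QQ cs X) : z * g = g * z :=
  Z_central R hL hz (QQ_le_PP hg)

/-- `Q/Z` is abelian -/
theorem comm_QQ {x y : Y} (hx : x ∈ QQ cs X) (hy : y ∈ QQ cs X) : ⁅x, y⁆ ∈ X rho := by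
  have key : ∀ y ∈ QQ cs X, (∀ b ∈ Rad cs isCartan rho, ∀ x ∈ X b, ⁅x, y⁆ ∈ X rho) →
      ∀ x ∈ QQ cs X, ⁅x, y⁆ ∈ X rho := by
    intro y hy h
    let K : Subgroup Y :=
      { carrier := {x | x ∈ QQ cs X ∧ ⁅x, y⁆ ∈ X rho}
        one_mem' := ⟨one_mem _, by simp [commutatorElement_def]⟩
        mul_mem' := by
          rintro a b ⟨ha, ha'⟩ ⟨hb, hb'⟩
          refine ⟨mul_mem ha hb, ?_⟩
          have e : ⁅a * b, y⁆ = ⁅b, y⁆ * ⁅a, y⁆ := by
            have e1 : ⁅a * b, y⁆ = (a * ⁅b, y⁆) * a⁻¹ * ⁅a, y⁆ := by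
              simp only [commutatorElement_def]; group
            rw [e1, ← Z_comm_Q R hL hb' ha]; group
          rw [e]
          exact mul_mem hb' ha'
        inv_mem' := by
          rintro a ⟨ha, ha'⟩
          refine ⟨inv_mem ha, ?_⟩
          have e : ⁅a⁻¹, y⁆ = ⁅a, y⁆⁻¹ := by
            have e1 : ⁅a⁻¹, y⁆ = a⁻¹ * ⁅a, y⁆⁻¹ * a := by
              simp only [commutatorElement_def]; group
            rw [e1, mul_assoc, Z_comm_Q R hL (inv_mem ha') ha]; group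
          rw [e]
          exact inv_mem ha' }
    have h1 : QQ cs X ≤ K := RGD.Sup_le fun b hb x hx => ⟨RGD.le_Sup hb hx, h b hb x hx⟩
    exact fun x hx => (h1 hx).2
  have h1 : ∀ b ∈ Rad cs isCartan rho, ∀ y ∈ X b, ∀ x ∈ QQ cs X, ⁅x, y⁆ ∈ X rho := by
    intro b hb y hy
    refine key y (RGD.le_Sup hb hy) fun b' hb' x hx => ?_
    rcases mem_Rad.1 hb' with rfl | h2
    · rw [commutatorElement_eq_one_iff_mul_comm.2 (Z_comm_Q R hL hx (RGD.le_Sup hb hy))]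
      exact one_mem _
    · rcases mem_Rad.1 hb with rfl | h3
      · rw [commutatorElement_eq_one_iff_mul_comm.2 (Z_comm_Q R hL hy (RGD.le_Sup hb' hx)).symm]
        exact one_mem _
      · exact comm_ph1 R hL h2 h3 hx hy
  refine key y hy (fun b hb x hx => ?_) x hx
  rw [← commutatorElement_inv]
  exact inv_mem (h1 b hb x hx y hy)

theorem conj_mem_of {H : Subgroup Y} (hZ : X rho ≤ H) (hH : H ≤ QQ cs X) {x g : Y} (hx : x ∈ H) (hg : g ∈ QQ cs X) :
    g * x * g⁻¹ ∈ H := by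
  have h1 := hZ (comm_QQ R hL hg (hH hx))
  rw [commutatorElement_def] at h1
  have : g * x * g⁻¹ = g * x * g⁻¹ * x⁻¹ * x := by group
  rw [this]
  exact H.mul_mem h1 hx

theorem AA_le (c ε : ℤ) : RGD.Sup X (AA cs c ε) ≤ QQ cs X := by
  refine RGD.Sup_mono fun x hx => mem_Rad.2 ?_
  exact hx.2.imp id fun h => h.1

theorem rho_AA (c ε : ℤ) : X rho ≤ RGD.Sup X (AA cs c ε) := RGD.le_Sup ⟨rho_root cs, Or.inl rfl⟩

theorem AA_inf {c c' ε ε' : ℤ} (h : AA cs c ε ∩ AA cs c' ε' ⊆ {rho}) :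
    RGD.Sup X (AA cs c ε) ⊓ RGD.Sup X (AA cs c' ε') ≤ X rho := by
  have : Finite W := finiteW cs
  rw [inf_eq_half R (ell cs isCartan (rho_root cs)) AA_pos AA_pos AA_closed AA_closed]
  refine RGD.Sup_le fun z hz => ?_
  have h1 := h hz
  rw [Set.mem_singleton_iff] at h1
  rw [h1]

/-- **`Q / Z` is the direct product of the `X b Z / Z`.** -/
theorem gr : Gr (X rho) (QQ cs X) (XX X) where
  Z_le := Z_le
  X_le := XX_le
  gen := by
    refine RGD.Sup_le fun z hz => ?_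
    rcases mem_Rad.1 hz with rfl | h
    · exact Z_le_QS
    · exact X_le_QS (X := XX X) (b := ⟨z, h⟩) (Set.mem_univ _)
  comm x hx y hy := comm_QQ R hL hx hy
  Zc z hz x hx := Z_comm_Q R hL hz hx
  ind := by
    have hfin : Finite W := finiteW cs
    intro b x hx hxo
    set c := ff b.1 with hc
    -- split
    have h1 : OO (X rho) (XX X) b ≤ RGD.Sup X (AA cs (c + 1) 1) ⊔ RGD.Sup X (AA cs (1 - c) (-1)) := by
      refine QS_le (le_trans (rho_AA R hL _ _) le_sup_left) fun b' hb' => ?_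
      have hne : ff b'.1 ≠ c := by
        intro h
        apply hb'
        exact Subtype.ext (ff_inj _ b'.2 _ b.2 h)
      rcases lt_or_gt_of_ne hne with h | h
      · refine le_trans ?_ le_sup_right
        exact RGD.le_Sup ⟨root_ph1 b'.2, Or.inr ⟨b'.2, by omega⟩⟩
      · refine le_trans ?_ le_sup_left
        exact RGD.le_Sup ⟨root_ph1 b'.2, Or.inr ⟨b'.2, by omega⟩⟩
    have h2 : RGD.Sup X (AA cs (1 - c) (-1)) ≤ Subgroup.normalizer (RGD.Sup X (AA cs (c + 1) 1) : Set Y) := by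
      intro g hg
      have hg' := AA_le R hL _ _ hg
      rw [Subgroup.mem_normalizer_iff]
      intro v
      constructor
      · intro hv
        exact conj_mem_of R hL (rho_AA R hL _ _) (AA_le R hL _ _) hv hg'
      · intro hv
        have := conj_mem_of R hL (rho_AA R hL _ _) (AA_le R hL _ _) hv (inv_mem hg')
        have e : g⁻¹ * (g * v * g⁻¹) * g⁻¹⁻¹ = v := by group
        rwa [e] at this
    have h3 : x ∈ ((RGD.Sup X (AA cs (c + 1) 1) ⊔ RGD.Sup X (AA cs (1 - c) (-1)) : Subgroup Y) : Set Y) := h1 hxo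
    rw [Subgroup.coe_mul_of_right_le_normalizer_left _ _ h2, Set.mem_mul] at h3
    obtain ⟨s1, hs1, s2, hs2, e⟩ := h3
    have m1 : RGD.Sup X (AA cs (c + 1) 1) ≤ RGD.Sup X (AA cs c 1) :=
      RGD.Sup_mono fun y hy => ⟨hy.1, hy.2.imp id fun h => ⟨h.1, by have := h.2; omega⟩⟩
    have hxc : x ∈ RGD.Sup X (AA cs c 1) :=
      RGD.le_Sup (X := X) (S := AA cs c 1) ⟨root_ph1 b.2, Or.inr ⟨b.2, by omega⟩⟩ hx
    have hxc' : x ∈ RGD.Sup X (AA cs (-c) (-1)) :=
      RGD.le_Sup (X := X) (S := AA cs (-c) (-1)) ⟨root_ph1 b.2, Or.inr ⟨b.2, by omega⟩⟩ hx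
    have h4 : s2 ∈ X rho := by
      refine AA_inf R hL (c := c) (c' := 1 - c) (ε := 1) (ε' := -1) ?_ (Subgroup.mem_inf.2 ⟨?_, hs2⟩)
      · rintro y ⟨⟨-, h5⟩, ⟨-, h6⟩⟩
        rcases h5 with h5 | ⟨-, h5⟩
        · exact h5
        rcases h6 with h6 | ⟨-, h6⟩
        · exact h6
        omega
      · have : s2 = s1⁻¹ * x := by rw [← e]; group
        rw [this]
        exact mul_mem (inv_mem (m1 hs1)) hxc
    have h5 : x ∈ X rho := by
      refine AA_inf R hL (c := c + 1) (c' := -c) (ε := 1) (ε' := -1) ?_ (Subgroup.mem_inf.2 ⟨?_, hxc'⟩)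
      · rintro y ⟨⟨-, h5⟩, ⟨-, h6⟩⟩
        rcases h5 with h5 | ⟨-, h5⟩
        · exact h5
        rcases h6 with h6 | ⟨-, h6⟩
        · exact h6
        omega
      · rw [← e]
        exact mul_mem hs1 (rho_AA R hL _ _ h4)
    have h6 : x ∈ X b.1 ⊓ X rho := Subgroup.mem_inf.2 ⟨hx, h5⟩
    rw [X_inf_X R (root_ph1 b.2) (rho_root cs) (by
      intro h
      have := (mem_ph1.1 b.2).2
      rw [h] at this
      exact absurd this (by decide)), Subgroup.mem_bot] at h6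
    exact h6

/-- `P` normalises `Q` -/
theorem PP_le_normalizer : PP cs X ≤ Subgroup.normalizer (QQ cs X : Set Y) := by
  have : Finite W := finiteW cs
  refine RGD.Sup_le fun e he => ?_
  refine R.le_normalizer he.1 fun y hy => ⟨hy.1, ?_⟩
  have he0 : 0 ≤ e 0 := (mem_Ge.1 he).2
  have hy0 : 1 ≤ y 0 := by
    have := hy.2
    rwa [cpr_rho] at this
  right
  refine ⟨?_, fun z hz => ⟨hz.1, ?_⟩⟩
  · rintro rfl
    have : (-y) 0 = -(y 0) := rfl
    omega
  · rw [cpr_rho]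
    exact btwn_zero hz.symm hy0 he0

end

/-- The operator. -/
def cc {e : Fin 4 → ℤ} (he : e ∈ le0) (b : Idx) : Option Idx :=
  if h : bf b.1 e = 2 then some ⟨b.1 - e, sub_le0 b.1 b.2 e he h⟩ else none

theorem cc_eq_some {e : Fin 4 → ℤ} {he : e ∈ le0} {b d : Idx} (h : cc he b = some d) :
    bf b.1 e = 2 ∧ d.1 = b.1 - e := by
  unfold cc at h
  split at h
  · next h1 =>
    refine ⟨h1, ?_⟩
    rw [← Option.some.inj h]
  · exact absurd h (by simp)

theorem cc_ne_none {e : Fin 4 → ℤ} {he : e ∈ le0} {b : Idx} : cc he b ≠ none ↔ bf b.1 e = 2 := by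
  unfold cc
  split
  · next h => simp [h]
  · next h => simp [h]

section

variable (R : RGD cs isCartan p T n X) (hL : LRl R)

include R hL

/-- The operators of the long root groups orthogonal to `ρ`. -/
theorem op {e : Fin 4 → ℤ} (he : e ∈ le0) {g : Y} (hg : g ∈ X (-e)) (hg1 : g ≠ 1) :
    Op (X rho) (QQ cs X) (XX X) g (cc he) := by
  have : Finite W := finiteW cs
  obtain ⟨her, he0, hel⟩ := mem_le0.1 he
  have her' := (mem_rts cs).2 her
  have hgP : g ∈ PP cs X := by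
    refine RGD.le_Sup (mem_Ge.2 ⟨her'.neg, ?_⟩) hg
    have : (-e) 0 = -(e 0) := rfl
    omega
  have nl : bf (-e) (-e) = 4 := by rw [bf_neg_left, bf_neg_right, neg_neg, hel]
  refine ⟨?_, ?_, ?_, ?_, ?_⟩
  · intro b b' d h1 h2
    have h3 := (cc_eq_some h1).2
    have h4 := (cc_eq_some h2).2
    rw [h3] at h4
    exact Subtype.ext (sub_left_injective h4)
  · intro x hx
    exact (Subgroup.mem_normalizer_iff.1 (PP_le_normalizer R hL hgP) x).1 hx
  · intro z hz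
    rw [← Z_central R hL hz hgP, mul_inv_cancel_right]
    exact hz
  · intro b d hbd x hx
    obtain ⟨h1, h2⟩ := cc_eq_some hbd
    have hxQ : x ∈ QQ cs X := XX_le b hx
    have hbr := root_ph1 (cs := cs) b.2
    have hed : -e + b.1 = d.1 := by rw [h2]; abel
    have key : ∀ y ∈ X d.1, ∀ z ∈ X rho, ⁅g, x⁆ = y * z → ∃ z' ∈ X rho, dl g x = y * z' := by
      intro y hy z hz hyz
      have hyQ : y ∈ QQ cs X := XX_le d hy
      refine ⟨z * ⁅(y * z)⁻¹, x⁻¹⁆, mul_mem hz (comm_QQ R hL (inv_mem (mul_mem hyQ (Z_le hz))) (inv_mem hxQ)), ?_⟩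
      have e1 : dl g x = x⁻¹ * ⁅g, x⁆ * x := by unfold dl; rw [commutatorElement_def]; group
      rw [e1, hyz, commutatorElement_def]; group
    rcases norm cs hbr with h3 | h3
    · have hA : A2 cs isCartan (-e) b.1 := a2 cs her'.neg hbr (by rw [nl, h3]) (by
        rw [bf_neg_left, bf_comm e, h1, nl]; norm_num)
      have h4 := hA.comm_mem R hg hx
      rw [hed] at h4
      obtain ⟨z', hz', e1⟩ := key _ h4 1 (one_mem _) (by rw [mul_one])
      exact ⟨_, h4, z', hz', e1, fun hx1 => hA.comm_ne_one R hg hg1 hx hx1⟩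
    · have hsd : bf (-e) b.1 = -2 := by rw [bf_neg_left, bf_comm, h1]
      obtain ⟨m, -, hm2, hm3⟩ := comm_135 R hL her'.neg hbr nl h3 hsd hg hg1
      obtain ⟨z, hz, hc⟩ := hm3 x hx
      have h4 := hm2 x hx
      rw [hed] at h4
      rw [le0_short b.1 b.2 e he h3 h1] at hz
      obtain ⟨z', hz', e1⟩ := key _ h4 z hz hc
      refine ⟨_, h4, z', hz', e1, fun hx1 h5 => hx1 ?_⟩
      have : x = m⁻¹ * (m * x * m⁻¹) * m := by group
      rw [this, h5]; group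
  · intro b hb x hx
    have hbr := root_ph1 (cs := cs) b.2
    have h1 : bf b.1 e ≤ 0 := by
      rcases le0_cases b.1 b.2 e he with h | h
      · exact absurd hb (cc_ne_none.2 h)
      · exact h
    have h2 : x * g = g * x := comm_long R hL hbr her'.neg nl (by rw [bf_neg_right]; omega) hx hg
    have : dl g x = 1 := by
      unfold dl
      rw [← h2]; group
    rw [this]
    exact one_mem _

theorem exists_ne {x : Fin 4 → ℤ} (hx : IsRoot cs isCartan x) : ∃ a ∈ X x, a ≠ 1 := by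
  have : Finite W := finiteW cs
  have := X_ne_bot R hx
  rw [Subgroup.ne_bot_iff_exists_ne_one] at this
  obtain ⟨⟨a, ha⟩, h1⟩ := this
  exact ⟨a, ha, fun h2 => h1 (Subtype.ext h2)⟩

/-- `Z ≤ ⁅Q, Q⁆` -/
theorem Z_le_comm : X rho ≤ ⁅QQ cs X, QQ cs X⁆ := by
  have : Finite W := finiteW cs
  have hb : (![1, 0, 0, 0] : Fin 4 → ℤ) ∈ ph1 := by decide +kernel
  have hbl : bf (![1, 0, 0, 0] : Fin 4 → ℤ) ![1, 0, 0, 0] = 4 := by decide +kernel
  generalize (![1, 0, 0, 0] : Fin 4 → ℤ) = b at hb hbl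
  obtain ⟨h1, h2, h3⟩ := a2_ph1 b hb hbl
  have hA : A2 cs isCartan b (rho - b) := a2 cs (root_ph1 hb) (root_ph1 h1) (by rw [hbl, h2]) (by rw [h3, hbl])
  obtain ⟨u, hu, hu1⟩ := exists_ne R hL (root_ph1 (cs := cs) hb)
  intro w hw
  obtain ⟨v, hv, e⟩ := hA.comm_surj R hu hu1 (w := w) (by
    have : b + (rho - b) = rho := by abel
    rw [this]; exact hw)
  rw [← e]
  exact Subgroup.commutator_mem_commutator (XX_le ⟨b, hb⟩ hu) (XX_le ⟨_, h1⟩ hv)

/-- one step from a long root -/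
theorem step {N : Subgroup Y} (hN : ∀ g ∈ PP cs X, ∀ x ∈ N, g * x * g⁻¹ ∈ N) {b c : Fin 4 → ℤ} (hb : b ∈ ph1)
    (hbl : bf b b = 4) (hc : c ∈ ph1) (hcl : bf c c = 4) (hbc : bf b c = 2) {x z : Y} (hx : x ∈ X b) (hx1 : x ≠ 1)
    (hz : z ∈ X rho) (hxz : x * z ∈ N) : X c ≤ N := by
  have : Finite W := finiteW cs
  obtain ⟨he, hbe⟩ := adj_le0 b hb hbl c hc hcl hbc
  obtain ⟨her, he0, hel⟩ := mem_le0.1 he
  have her' : IsRoot cs isCartan (b - c) := (mem_rts cs).2 her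
  have hA : A2 cs isCartan b (-(b - c)) := a2 cs (root_ph1 hb) her'.neg (by
    rw [bf_neg_left, bf_neg_right, neg_neg, hel, hbl]) (by rw [bf_neg_right, hbe, hbl]; norm_num)
  intro w hw
  obtain ⟨g, hg, e⟩ := hA.comm_surj R (inv_mem hx) (inv_ne_one.2 hx1) (w := w) (by
    have : b + -(b - c) = c := by abel
    rw [this]; exact hw)
  have hgP : g ∈ PP cs X := by
    refine RGD.le_Sup (mem_Ge.2 ⟨her'.neg, ?_⟩) hg
    have : (-(b - c)) 0 = -((b - c) 0) := rfl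
    omega
  have h1 := mul_mem (inv_mem hxz) (hN g hgP _ hxz)
  have h2 : (x * z)⁻¹ * (g * (x * z) * g⁻¹) = ⁅x⁻¹, g⁆ := by
    have h3 := Z_central R hL hz hgP
    have h4 : z * x⁻¹ = x⁻¹ * z := Z_comm_Q R hL hz (inv_mem (XX_le ⟨b, hb⟩ hx))
    have h5 : z * g⁻¹ = g⁻¹ * z := Z_central R hL hz (inv_mem hgP)
    have h6 := Z_central R hL hz (QQ_le_PP (XX_le ⟨b, hb⟩ hx))
    calc (x * z)⁻¹ * (g * (x * z) * g⁻¹) = z⁻¹ * (x⁻¹ * g * x) * (z * g⁻¹) := by group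
      _ = z⁻¹ * (x⁻¹ * g * x) * (g⁻¹ * z) := by rw [h5]
      _ = z⁻¹ * (⁅x⁻¹, g⁆ * z) := by rw [commutatorElement_def]; group
      _ = z⁻¹ * (z * ⁅x⁻¹, g⁆) := by
        rw [← Z_central R hL hz (QQ_le_PP (XX_le ⟨c, hc⟩ (by
          show ⁅x⁻¹, g⁆ ∈ X c
          rw [e]; exact hw)))]
      _ = _ := by group
  rw [h2, e] at h1
  exact h1

/-- all long roots -/
theorem all_long {N : Subgroup Y} (hN : ∀ g ∈ PP cs X, ∀ x ∈ N, g * x * g⁻¹ ∈ N) {b : Fin 4 → ℤ} (hb : b ∈ ph1)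
    (hbl : bf b b = 4) {x z : Y} (hx : x ∈ X b) (hx1 : x ≠ 1) (hz : z ∈ X rho) (hxz : x * z ∈ N) {b' : Fin 4 → ℤ}
    (hb' : b' ∈ ph1) (hbl' : bf b' b' = 4) : X b' ≤ N := by
  have full : ∀ b ∈ ph1, bf b b = 4 → X b ≤ N → ∀ c ∈ ph1, bf c c = 4 → bf b c = 2 → X c ≤ N := by
    intro b hb hbl hbN c hc hcl hbc
    obtain ⟨u, hu, hu1⟩ := exists_ne R hL (root_ph1 (cs := cs) hb)
    exact step R hL hN hb hbl hc hcl hbc hu hu1 (one_mem _) (by rw [mul_one]; exact hbN hu)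
  obtain ⟨c1, h1, h1', h1'', h2⟩ := conn_ph1 b hb hbl b' hb' hbl'
  have k1 := step R hL hN hb hbl h1 h1' h1'' hx hx1 hz hxz
  rcases h2 with rfl | ⟨c2, h2, h2', h2'', h3⟩
  · exact k1
  have k2 := full c1 h1 h1' k1 c2 h2 h2' h2''
  rcases h3 with rfl | ⟨c3, h3, h3', h3'', rfl⟩
  · exact k2
  exact full c2 h2 h2' k2 c3 h3 h3' h3''

/-- short roots from long ones -/
theorem all_short {N : Subgroup Y} (hN : ∀ g ∈ PP cs X, ∀ x ∈ N, g * x * g⁻¹ ∈ N)
    (hl : ∀ b ∈ ph1, bf b b = 4 → X b ≤ N) {b : Fin 4 → ℤ} (hb : b ∈ ph1) (hbs : bf b b = 2) : X b ≤ N := by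
  have : Finite W := finiteW cs
  obtain ⟨s, hs, hsl, d, hd, hd0, hdd, hsd, rfl, h2⟩ := short_ph1 b hb hbs
  have hl2 : bf (s + d + d) (s + d + d) = 4 := by
    simp only [bf_add_left, bf_add_right, hsl, hdd, hsd, bf_comm d s]; norm_num
  have hdr : IsRoot cs isCartan d := (mem_rts cs).2 hd
  obtain ⟨u, hu, hu1⟩ := exists_ne R hL (root_ph1 (cs := cs) hs)
  obtain ⟨m, ⟨w, hmw, hw⟩, -, hm3⟩ := comm_135 R hL (root_ph1 (cs := cs) hs) hdr hsl hdd hsd hu hu1
  have hwd : rep cs isCartan w d = s + d := by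
    rw [hw]
    have := cpr_long cs d (root_ph1 (cs := cs) hs) hsl
    rw [bf_comm] at this
    have h1 : cpr cs isCartan d s = -1 := by omega
    rw [h1, neg_one_smul, sub_neg_eq_add, add_comm]
  have hwd' : rep cs isCartan w⁻¹ (s + d) = d := by rw [← hwd, rep_inv_apply]
  intro y hy
  have hv : m⁻¹ * y * m ∈ X d := by
    have := R.conj_mem' hmw (root_ph1 (cs := cs) hb) hy
    rwa [hwd'] at this
  obtain ⟨z, hz, e⟩ := hm3 _ hv
  have hvP : m⁻¹ * y * m ∈ PP cs X := RGD.le_Sup (mem_Ge.2 ⟨hdr, hd0.ge⟩) hv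
  have h3 : ⁅u, m⁻¹ * y * m⁆ ∈ N := by
    have huN := hl s hs hsl hu
    rw [commutatorElement_def]
    have h4 := mul_mem huN (hN _ hvP _ (inv_mem huN))
    have : u * (m⁻¹ * y * m) * u⁻¹ * (m⁻¹ * y * m)⁻¹ = u * (m⁻¹ * y * m * u⁻¹ * (m⁻¹ * y * m)⁻¹) := by group
    rw [this]; exact h4
  rw [e] at h3
  have h4 := mul_mem h3 (inv_mem (hl _ h2 hl2 hz))
  have : m * (m⁻¹ * y * m) * m⁻¹ * z * z⁻¹ = y := by group
  rwa [this] at h4

/-- **(H4)** `Q / Z` is irreducible for `P`. -/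
theorem irr (hT : Tr R) {N : Subgroup Y} (hNQ : N ≤ QQ cs X) (hN : ∀ g ∈ PP cs X, ∀ x ∈ N, g * x * g⁻¹ ∈ N) :
    N ≤ X rho ∨ N = QQ cs X := by
  have : Finite W := finiteW cs
  by_cases hNZ : N ≤ X rho
  · exact Or.inl hNZ
  right
  have F := gr R hL
  have hsep : ∀ b b' : Idx, b ≠ b' → ∃ g ∈ PP cs X, ∃ c, Op (X rho) (QQ cs X) (XX X) g c ∧
      ((c b ≠ none ∧ c b' = none) ∨ (c b = none ∧ c b' ≠ none)) := by
    intro b b' hbb
    obtain ⟨e, he, h⟩ := sep_le0 b.1 b.2 b'.1 b'.2 fun h => hbb (Subtype.ext h)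
    obtain ⟨her, he0, hel⟩ := mem_le0.1 he
    have her' : IsRoot cs isCartan e := (mem_rts cs).2 her
    obtain ⟨g, hg, hg1⟩ := exists_ne R hL her'.neg
    refine ⟨g, ?_, cc he, op R hL he hg hg1, ?_⟩
    · refine RGD.le_Sup (mem_Ge.2 ⟨her'.neg, ?_⟩) hg
      have : (-e) 0 = -(e 0) := rfl
      omega
    · rcases h with ⟨h1, h2⟩ | ⟨h1, h2⟩
      · left
        refine ⟨cc_ne_none.2 h1, ?_⟩
        by_contra h3
        exact h2 (cc_ne_none.1 h3)
      · right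
        refine ⟨?_, cc_ne_none.2 h2⟩
        by_contra h3
        exact h1 (cc_ne_none.1 h3)
  obtain ⟨b, x, hx, hx1, z, hz, hxz⟩ := exists_single F hsep hNQ hN hNZ
  -- a long root
  obtain ⟨b, hb, hbl, x, hx, hx1, z, hz, hxz⟩ : ∃ b ∈ ph1, bf b b = 4 ∧ ∃ x ∈ X b, x ≠ 1 ∧ ∃ z ∈ X rho, x * z ∈ N := by
    rcases norm cs (root_ph1 (cs := cs) b.2) with h | h
    · exact ⟨b.1, b.2, h, x, hx, hx1, z, hz, hxz⟩
    · obtain ⟨d, hd, hd0, hdd, hbd, hs, hsl⟩ := orth_ph1 b.1 b.2 h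
      have hdr : IsRoot cs isCartan d := (mem_rts cs).2 hd
      obtain ⟨v, hv, hv1⟩ := hT b.1 d (root_ph1 b.2) hdr h hdd hbd (root_ph1 hs) x⁻¹ (inv_mem hx) (inv_ne_one.2 hx1)
      refine ⟨b.1 + d, hs, hsl, ⁅x⁻¹, v⁆, comm_sum R hL (root_ph1 b.2) hdr h hdd hbd (inv_mem hx) hv, hv1, 1,
        one_mem _, ?_⟩
      have hvP : v ∈ PP cs X := RGD.le_Sup (mem_Ge.2 ⟨hdr, hd0.ge⟩) hv
      have h1 := mul_mem (inv_mem hxz) (hN v hvP _ hxz)
      have h5 : z * v⁻¹ = v⁻¹ * z := Z_central R hL hz (inv_mem hvP)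
      have h6 : ⁅x⁻¹, v⁆ ∈ X (b.1 + d) := comm_sum R hL (root_ph1 b.2) hdr h hdd hbd (inv_mem hx) hv
      have h2 : (x * z)⁻¹ * (v * (x * z) * v⁻¹) = ⁅x⁻¹, v⁆ * 1 := by
        calc (x * z)⁻¹ * (v * (x * z) * v⁻¹) = z⁻¹ * (x⁻¹ * v * x) * (z * v⁻¹) := by group
          _ = z⁻¹ * (x⁻¹ * v * x) * (v⁻¹ * z) := by rw [h5]
          _ = z⁻¹ * (⁅x⁻¹, v⁆ * z) := by rw [commutatorElement_def]; group
          _ = z⁻¹ * (z * ⁅x⁻¹, v⁆) := by
            rw [← Z_central R hL hz (QQ_le_PP (XX_le ⟨_, hs⟩ h6))]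
          _ = _ := by group
      rw [h2] at h1
      exact h1
  have h1 : ∀ b' ∈ ph1, bf b' b' = 4 → X b' ≤ N := fun b' hb' hbl' => all_long R hL hN hb hbl hx hx1 hz hxz hb' hbl'
  refine eq_of_le F (Z_le_comm R hL) hNQ fun c x hx => ⟨1, one_mem _, ?_⟩
  rw [mul_one]
  rcases norm cs (root_ph1 (cs := cs) c.2) with h | h
  · exact h1 c.1 c.2 h hx
  · exact all_short R hL hN h1 c.2 h hx

end

end Cfsg.Agent.KFacts.TwESix.Irr

end

-- merged: Cfsg.Agent.KFacts.TwESix.Faith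
section

/-!
# `²E₆(q)`: the action of `P` on `Q` (K-facts (H1), (H4), (LL) of ODD D7, packet [D])

`P = QRho.PP`, `Q = QRho.QQ`, `Z = X ρ`, `D : Dat R`.

* `irr` : (H4) in terms of `Dat`;
* `cent_Q` : an element of `GG` centralising `Q` is in `Z` (`NoCent`: `GG` has no centre in `T`);
* `nrm` : (H1) a nontrivial perfect normal subgroup of `P` contains `Q`;
* `core` : a 2-subgroup normalised by `P` is in `Q`; `isPGroup_QQ`, `cent_z` (`C_GG(z) ≤ T P`), `perfect_le` : a perfect subgroup of `C_GG(z)` lies in `P`;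
* `exists_pair` : (LL) two long root groups are simultaneously conjugate to `X ρ`, `X s`; `Q_eq` : `Q` is generated by `Z`
  and the `P`-conjugates of one long root group.
-/

set_option autoImplicit false
set_option linter.unusedSectionVars false

namespace Cfsg.Agent.KFacts.TwESix.Faith

open CoxeterSystem Cfsg.Agent.ChevalleyStructure.CoxeterGeom Cfsg.Agent.Tits.Roots Cfsg.Agent.Tits.Core
  Cfsg.Agent.Tits.RootComb Cfsg.Agent.Tits.Exchange Cfsg.Agent.Nodes.Reps Cfsg.Agent.Nodes.BNOf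
  Cfsg.Agent.Nodes.Coroot Cfsg.Agent.Nodes.LeviDec
  Cfsg.Agent.Nodes.Bruhat Cfsg.Agent.Nodes.OppDec Cfsg.Agent.Nodes.StabComb
  Cfsg.Agent.KFacts.RgdPar Cfsg.Agent.KFacts.RgdCent
  Cfsg.Agent.KFacts.RgdSL Cfsg.Agent.KFacts.RgdTI Cfsg.Agent.KFacts.RgdEx Cfsg.Agent.KFacts.RgdOdd
  Cfsg.Agent.Nodes.RGDTwE6 Cfsg.Agent.KFacts.TwESix.Comb Cfsg.Agent.KFacts.TwESix.Btw
  Cfsg.Agent.KFacts.TwESix.Pair Cfsg.Agent.KFacts.TwESix.Facts Cfsg.Agent.KFacts.TwESix.QRho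
open scoped commutatorElement

theorem star_long : ∀ b ∈ rts, (∀ a ∈ rts, 1 ≤ a 0 → bf a a = 4 → 0 ≤ bf b a) →
    b = rho ∨ (b 0 = 1 ∧ bf b b = 2) := by
  decide +kernel

theorem a2_zero : ∀ b ∈ rts, b 0 = 0 → ∃ c ∈ rts, c 0 = 1 ∧ b - c ∈ rts ∧ bf c c = bf (b - c) (b - c) ∧
    2 * bf c (b - c) = - bf c c := by
  decide +kernel

theorem pos_of_zero : ∀ b ∈ rts, 1 ≤ b 0 → 0 ≤ b 1 ∧ 0 ≤ b 2 ∧ 0 ≤ b 3 := by decide +kernel

variable {W Y : Type*} [Group W] [Group Y] {cs : CoxeterSystem CoxeterMatrix.F₄ W} {T : Subgroup Y}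
  {n : Fin 4 → Y} {X : (Fin 4 → ℤ) → Subgroup Y} {R : RGD cs isCartan 2 T n X}

theorem LRl_of (D : Dat R) : LRl R := D.lr

theorem tr_of (D : Dat R) : Tr R := by
  intro b d hb hd hbb hdd hbd _ x hx hx1
  obtain ⟨v, hv, h⟩ := orth_nd D hb hd hbb hdd hbd hx hx1
  exact ⟨v, hv, fun h1 => h (commutatorElement_eq_one_iff_mul_comm.1 h1)⟩

/-- **(H4)** -/
theorem irr (D : Dat R) {N : Subgroup Y} (hNQ : N ≤ QQ cs X)
    (hN : ∀ g ∈ PP cs X, ∀ x ∈ N, g * x * g⁻¹ ∈ N) : N ≤ X rho ∨ N = QQ cs X :=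
  Irr.irr R D.lr (tr_of D) hNQ hN

/-- **`C_GG(Q) = Z`** -/
theorem cent_Q (D : Dat R) (hNC : NoCent cs isCartan T X) {c : Y} (hc : c ∈ GG cs isCartan T X)
    (hcQ : ∀ v ∈ QQ cs X, c * v = v * c) : c ∈ X rho := by
  have : Finite W := finiteW cs
  set Psi : Set (Fin 4 → ℤ) := {a | a ∈ Rad cs isCartan rho ∧ bf a a = 4} with hPsi
  have hLR : ∀ a ∈ Psi, LR R a := fun a ha => D.lr a ha.1.1 ha.2
  have hst : ∀ b ∈ Star cs isCartan Psi, ∀ a ∈ Psi, ∀ u ∈ X b, ∀ v ∈ X a, u * v = v * u :=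
    fun b hb a ha u hu v hv => (hLR a ha).comm b hb.1 (hb.2 a ha) u hu v hv
  obtain ⟨t, ht, hPt, q, hq, rfl⟩ := cent_eq R hLR hst hc fun a ha v hv => hcQ v (RGD.le_Sup ha.1 hv)
  -- `Star Psi ≤ Rad`
  have hsub : Star cs isCartan Psi ⊆ Rad cs isCartan rho := by
    intro b hb
    have hb' := (mem_rts cs).1 hb.1
    rw [Irr.mem_Rad]
    rcases star_long b hb' (fun a ha ha1 ha4 => by
      have har := (mem_rts cs).2 ha
      refine (ge_iff cs har ha4).1 (hb.2 a ⟨⟨har, ?_⟩, ha4⟩)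
      rw [cpr_rho]; exact ha1) with h | h
    · exact Or.inl h
    · exact Or.inr (Irr.mem_ph1.2 ⟨hb', h.1⟩)
  have hqQ : q ∈ QQ cs X := RGD.Sup_mono hsub hq
  -- `t` centralises `Q`
  have htb : ∀ b ∈ Rad cs isCartan rho, b ∈ Cen cs isCartan X t := by
    intro b hb
    refine ⟨hb.1, fun v hv => ?_⟩
    have hvQ : v ∈ QQ cs X := RGD.le_Sup hb hv
    by_cases hbr : b = rho
    · subst hbr
      exact (hPt (a := rho) ⟨hb, rho_long⟩).2 v hv
    have h1 : ⁅q⁻¹, v⁆ ∈ X rho := Irr.comm_QQ R D.lr (inv_mem hqQ) hvQ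
    have h2 : t * v * t⁻¹ = ⁅q⁻¹, v⁆ * v := by
      have h3 := hcQ _ (mul_mem (Irr.Z_le h1) hvQ)
      have h4 : t * v * t⁻¹ = (t * q) * (⁅q⁻¹, v⁆ * v) * (t * q)⁻¹ := by rw [commutatorElement_def]; group
      rw [h4, h3]; group
    have h5 : ⁅q⁻¹, v⁆ ∈ X b ⊓ X rho := by
      refine Subgroup.mem_inf.2 ⟨?_, h1⟩
      have h6 : ⁅q⁻¹, v⁆ = t * v * t⁻¹ * v⁻¹ := by rw [h2]; group
      rw [h6]
      exact mul_mem (tor_mem R hb.1 ht hv) (inv_mem hv)
    rw [X_inf_X R hb.1 (rho_root cs) hbr, Subgroup.mem_bot] at h5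
    rw [h5, one_mul] at h2
    calc t * v = t * v * t⁻¹ * t := by group
      _ = v * t := by rw [h2]
  have htall : ∀ b, IsRoot cs isCartan b → b ∈ Cen cs isCartan X t := by
    intro b hb
    rcases lt_trichotomy (b 0) 0 with h0 | h0 | h0
    · have h1 := cen_neg R ht (htb (-b) ⟨hb.neg, by
        rw [cpr_rho]
        show 1 ≤ -(b 0)
        omega⟩)
      rwa [neg_neg] at h1
    · obtain ⟨c, hc, hc0, hd, hn, h2⟩ := a2_zero b ((mem_rts cs).1 hb) h0
      have hcr := (mem_rts cs).2 hc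
      have hdr := (mem_rts cs).2 hd
      have hA : A2 cs isCartan c (b - c) := a2 cs hcr hdr hn h2
      have h3 : c ∈ Cen cs isCartan X t := htb c ⟨hcr, by rw [cpr_rho, hc0]⟩
      have h4 : b - c ∈ Cen cs isCartan X t := by
        have h5 := cen_neg R ht (htb (-(b - c)) ⟨hdr.neg, by
          rw [cpr_rho]
          show 1 ≤ -(b 0 - c 0)
          omega⟩)
        rwa [neg_neg] at h5
      have h5 := cen_add R hA h3 h4
      rwa [add_sub_cancel] at h5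
    · exact htb b ⟨hb, by rw [cpr_rho]; omega⟩
  have ht1 : t = 1 := hNC t ht fun b hb => (htall b hb).2
  rw [ht1, one_mul] at hcQ ⊢
  have h1 := (loc D).ZQ (q := q) (by rw [QS_eq (cs := cs)]; exact hqQ) (fun v hv => hcQ v (by
    rw [QS_eq (cs := cs)] at hv; exact hv))
  exact h1

theorem PP_le_GG : PP cs X ≤ GG cs isCartan T X := by
  refine RGD.Sup_le fun b hb => ?_
  exact le_trans (X_le_PS (T := T) (Ω := {b | IsRoot cs isCartan b}) hb.1) (PS_le_GG fun x hx => hx)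

/-- **(H1)** -/
theorem nrm (D : Dat R) (hNC : NoCent cs isCartan T X) {N : Subgroup Y} (hNP : N ≤ PP cs X) (hNN : ⁅N, N⁆ = N)
    (hN1 : N ≠ ⊥) (hN : ∀ p ∈ PP cs X, ∀ x ∈ N, p * x * p⁻¹ ∈ N) : QQ cs X ≤ N := by
  have hnorm : ∀ p ∈ PP cs X, ∀ q ∈ QQ cs X, p * q * p⁻¹ ∈ QQ cs X := fun p hp q hq =>
    (Subgroup.mem_normalizer_iff.1 (PP_normalizer R hp) q).1 hq
  rcases irr D (N := N ⊓ QQ cs X) inf_le_right (fun g hg x hx =>
    Subgroup.mem_inf.2 ⟨hN g hg x hx.1, hnorm g hg x hx.2⟩) with h | h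
  · exfalso
    have h1 : ⁅N, QQ cs X⁆ ≤ X rho := by
      rw [Subgroup.commutator_le]
      intro x hx y hy
      apply h
      refine Subgroup.mem_inf.2 ⟨?_, ?_⟩
      · rw [commutatorElement_def]
        have h2 := mul_mem hx (hN y (QQ_le_PP hy) _ (inv_mem hx))
        have e : x * y * x⁻¹ * y⁻¹ = x * (y * x⁻¹ * y⁻¹) := by group
        rw [e]; exact h2
      · rw [commutatorElement_def]
        exact mul_mem (hnorm x (hNP hx) y hy) (inv_mem hy)
    have h2 : ⁅⁅N, QQ cs X⁆, N⁆ = ⊥ := by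
      rw [eq_bot_iff, Subgroup.commutator_le]
      intro x hx y hy
      rw [Subgroup.mem_bot, commutatorElement_eq_one_iff_mul_comm]
      exact cen_PP D (h1 hx) (hNP hy)
    have h3 : ⁅⁅N, N⁆, QQ cs X⁆ = ⊥ := by
      refine Subgroup.commutator_commutator_eq_bot_of_rotate h2 ?_
      rw [Subgroup.commutator_comm (QQ cs X) N]
      exact h2
    rw [hNN] at h3
    have h4 : N ≤ X rho := by
      intro x hx
      refine cent_Q D hNC (PP_le_GG (hNP hx)) fun v hv => ?_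
      have h5 : ⁅x, v⁆ ∈ ⁅N, QQ cs X⁆ := Subgroup.commutator_mem_commutator hx hv
      rw [h3, Subgroup.mem_bot] at h5
      exact commutatorElement_eq_one_iff_mul_comm.1 h5
    apply hN1
    rw [eq_bot_iff, ← hNN, Subgroup.commutator_le]
    intro x hx y hy
    rw [Subgroup.mem_bot, commutatorElement_eq_one_iff_mul_comm]
    exact cen_PP D (h4 hx) (hNP hy)
  · rw [← h]
    exact inf_le_left

/-- `Q` is a 2-group -/
theorem isPGroup_QQ (R : RGD cs isCartan 2 T n X) : IsPGroup 2 (QQ cs X) := by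
  have : Finite W := finiteW cs
  refine IsPGroup.to_le (R.isPGroup_Upos) (RGD.Sup_mono fun b hb => ⟨hb.1, ?_⟩)
  have h1 := hb.2
  rw [cpr_rho] at h1
  have h2 := pos_of_zero b ((mem_rts cs).1 hb.1) h1
  intro i
  fin_cases i
  · show (0 : ℤ) ≤ b 0
    omega
  · exact h2.1
  · exact h2.2.1
  · exact h2.2.2

/-- `O₂(P) = Q` -/
theorem core [Finite Y] (R : RGD cs isCartan 2 T n X) {E : Subgroup Y} (hE : E ≤ PP cs X) (h2 : IsPGroup 2 E)
    (hn : ∀ p ∈ PP cs X, ∀ d ∈ E, p * d * p⁻¹ ∈ E) : E ≤ QQ cs X := by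
  have : Finite W := finiteW cs
  have : Fact (Nat.Prime 2) := ⟨Nat.prime_two⟩
  refine core_le R (rho_root cs) (le_trans hE PP_le_GG) h2 fun u hu => ?_
  apply le_antisymm
  · intro x hx
    rw [mem_cj] at hx
    have := hn u hu _ hx
    have e : u * (u⁻¹ * x * u) * u⁻¹ = x := by group
    rwa [e] at this
  · intro x hx
    rw [mem_cj]
    have := hn u⁻¹ (inv_mem hu) x hx
    rwa [inv_inv] at this

/-- `C_GG(z) ≤ T P` -/
theorem cent_z (D : Dat R) {g z : Y} (hg : g ∈ GG cs isCartan T X) (hz : z ∈ X rho) (hz1 : z ≠ 1)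
    (hgz : g * z = z * g) : ∃ t ∈ T, t * z = z * t ∧ ∃ q ∈ PP cs X, g = t * q := by
  have : Finite W := finiteW cs
  exact ((D.lr rho (rho_root cs) rho_long).mem_centralizer hg hz hz1).1 hgz

/-- A perfect subgroup of `C_GG(z)` lies in `P`. -/
theorem perfect_le (D : Dat R) (hT : ∀ a ∈ T, ∀ b ∈ T, a * b = b * a) {z : Y} (hz : z ∈ X rho) (hz1 : z ≠ 1)
    {E : Subgroup Y} (hE : ⁅E, E⁆ = E) (hEG : E ≤ GG cs isCartan T X) (hEz : ∀ x ∈ E, x * z = z * x) :
    E ≤ PP cs X := by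
  have hTn : T ≤ Subgroup.normalizer (PP cs X : Set Y) := R.T_le_normalizer fun x hx => hx.1
  have key : ∀ p ∈ PP cs X, ∀ t ∈ T, t * p * t⁻¹ ∈ PP cs X := fun p hp t ht =>
    (Subgroup.mem_normalizer_iff.1 (hTn ht) p).1 hp
  rw [← hE, Subgroup.commutator_le]
  intro x hx y hy
  obtain ⟨a, ha, -, p, hp, rfl⟩ := cent_z D (hEG hx) hz hz1 (hEz x hx)
  obtain ⟨b, hb, -, q, hq, rfl⟩ := cent_z D (hEG hy) hz hz1 (hEz y hy)
  have e : ⁅a * p, b * q⁆ = (a * p * a⁻¹) * ((a * b) * (q * p⁻¹) * (a * b)⁻¹) * (b * q⁻¹ * b⁻¹) := by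
    have h1 := hT a ha b hb
    rw [commutatorElement_def]
    have h2 : (a * b)⁻¹ * b = a⁻¹ := by rw [h1]; group
    calc a * p * (b * q) * (a * p)⁻¹ * (b * q)⁻¹ = a * p * b * q * p⁻¹ * a⁻¹ * q⁻¹ * b⁻¹ := by group
      _ = a * p * a⁻¹ * (a * b) * (q * p⁻¹) * (a⁻¹) * q⁻¹ * b⁻¹ := by group
      _ = a * p * a⁻¹ * (a * b) * (q * p⁻¹) * ((a * b)⁻¹ * b) * q⁻¹ * b⁻¹ := by rw [h2]
      _ = _ := by group
  rw [e]
  exact mul_mem (mul_mem (key _ hp _ ha) (key _ (mul_mem hq (inv_mem hp)) _ (mul_mem ha hb)))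
    (key _ (inv_mem hq) _ hb)

/-! ### (LL) -/

theorem rho_dom (i : Fin 4) : 0 ≤ cpr cs isCartan (sr i) rho := by
  rw [cpr_rho]
  fin_cases i <;> simp [sr]

/-- `B ≤ N(X ρ)` -/
theorem B_le_normalizer (D : Dat R) : RGD.B cs isCartan T X ≤ Subgroup.normalizer (X rho : Set Y) := by
  have : Finite W := finiteW cs
  have L := D.lr rho (rho_root cs) rho_long
  refine le_trans ?_ L.PS_le_normalizer
  have h1 : PS T X (Ge cs isCartan rho) = PJ cs isCartan T X {i | ell cs isCartan L.root (sr i) = 0} :=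
    PS_half_of_dom (f := ell cs isCartan L.root) rho_dom
  rw [h1]
  exact B_le_PJ

/-- **(LL)** Two long root groups are simultaneously conjugate to `X ρ`, `X s`. -/
theorem exists_pair (D : Dat R) {g h : Y} (hg : g ∈ GG cs isCartan T X) (hh : h ∈ GG cs isCartan T X) :
    ∃ k ∈ GG cs isCartan T X, ∃ s, IsRoot cs isCartan s ∧ bf s s = 4 ∧ cj g (X rho) = cj k (X rho) ∧
      cj h (X rho) = cj k (X s) := by
  have : Finite W := finiteW cs
  have hB := B_le_normalizer D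
  obtain ⟨w, b₁, hb₁, m, hm, b₂, hb₂, e⟩ := (mem_GG R).1 (mul_mem (inv_mem hg) hh)
  refine ⟨g * b₁, mul_mem hg (B_le_GG hb₁), rep cs isCartan w rho, (rho_root cs).act w, ?_, ?_, ?_⟩
  · rw [bf_rep]; exact rho_long
  · rw [cj_mul, mem_normalizer_iff_cj.1 (hB hb₁)]
  · have e' : h = g * b₁ * m * b₂ := by
      have : h = g * (g⁻¹ * h) := by group
      rw [this, e]; group
    rw [e', cj_mul, mem_normalizer_iff_cj.1 (hB hb₂), cj_mul, R.conj_rp hm (rho_root cs)]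

/-- `Q` is generated by `Z` and the `P`-conjugates of a long root group `X s`, `⟨s, ρ^∨⟩ = 1`. -/
theorem Q_eq (D : Dat R) {s : Fin 4 → ℤ} (hs : IsRoot cs isCartan s) (hs0 : s 0 = 1) :
    QQ cs X = X rho ⊔ ⨆ p : PP cs X, cj (p : Y) (X s) := by
  have : Finite W := finiteW cs
  set N : Subgroup Y := X rho ⊔ ⨆ p : PP cs X, cj (p : Y) (X s) with hN
  have hsQ : X s ≤ QQ cs X := le_QQ hs (by rw [hs0])
  have h1 : N ≤ QQ cs X := by
    refine sup_le (le_QQ (rho_root cs) (by decide)) (iSup_le fun p => ?_)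
    intro x hx
    rw [mem_cj] at hx
    have h2 := (Subgroup.mem_normalizer_iff.1 (PP_normalizer R p.2) _).1 (hsQ hx)
    have e : (p : Y) * ((p : Y)⁻¹ * x * p) * (p : Y)⁻¹ = x := by group
    rwa [e] at h2
  have hinv : ∀ g ∈ PP cs X, ∀ x ∈ N, g * x * g⁻¹ ∈ N := by
    intro g hg x hx
    have h2 : cj g N ≤ N := by
      rw [hN, cj_sup, cj_iSup]
      refine sup_le ?_ (iSup_le fun p => ?_)
      · refine le_trans ?_ le_sup_left
        intro y hy
        rw [mem_cj] at hy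
        have h3 := cen_PP D hy (inv_mem hg)
        have e : y = g⁻¹ * y * g := by
          have h4 : g⁻¹ * y * g * g⁻¹ = g⁻¹ * (g⁻¹ * y * g) := h3
          have h5 : g⁻¹ * y = g⁻¹ * (g⁻¹ * y * g) := by rw [← h4]; group
          exact mul_left_cancel h5
        rw [e]; exact hy
      · refine le_trans ?_ le_sup_right
        rw [← cj_mul]
        exact le_iSup (fun p : PP cs X => cj (p : Y) (X s)) (⟨g, hg⟩ * p)
    exact h2 (conj_mem_cj.2 hx)
  rcases irr D h1 hinv with h | h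
  · exfalso
    obtain ⟨u, hu, hu1⟩ := exists_ne_one R hs
    have h2 : u ∈ X s ⊓ X rho := by
      refine Subgroup.mem_inf.2 ⟨hu, h ?_⟩
      have h3 : X s ≤ ⨆ p : PP cs X, cj (p : Y) (X s) := by
        refine le_trans (le_of_eq ?_) (le_iSup (fun p : PP cs X => cj (p : Y) (X s)) 1)
        show X s = cj ((1 : PP cs X) : Y) (X s)
        rw [Subgroup.coe_one, cj_one]
      exact (le_trans h3 le_sup_right) hu
    rw [X_inf_X R hs (rho_root cs) (by
      intro h0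
      rw [h0] at hs0
      exact absurd hs0 (by decide)), Subgroup.mem_bot] at h2
    exact hu1 h2
  · exact h.symm

end Cfsg.Agent.KFacts.TwESix.Faith

end
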